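import Cfsg.Agent.H70.SzUnique.Coords
import Cfsg.Agent.Suzuki.Lie

/-!
A simple Zassenhaus group with non-abelian two-group kernel is a Suzuki group.
-/

set_option autoImplicit false

namespace Cfsg.Agent.H70.SzUnique

open MulAction H28 H28.Zass

section model

open Cfsg.Agent.Suzuki

variable {F : Type} [Field F] [Fintype F] (m : ℕ) [SzField F m]

/-- The unipotent group is the kernel at infinity. -/
theorem isKer_U : IsKer (oInf m : suzukiOvoid F m) (Suzuki.U m : Subgroup (Cfsg.Sz F m)) := by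
  refine ⟨fun g hg => ?_, by rw [card_U, card_ovoid], fun g hg h1 c hc => ?_⟩
  · obtain ⟨x, y, rfl⟩ := (mem_U m).1 hg
    exact u_smul_oInf m x y
  · obtain ⟨x, y, rfl⟩ := (mem_U m).1 hg
    rcases ovoid_cases c with rfl | ⟨p, q, rfl⟩
    · rfl
    · rw [u_smul_oPt, oPt_inj] at hc
      obtain ⟨hx, hy⟩ := hc
      have hx0 : x = 0 := by linear_combination hx
      subst hx0
      refine absurd ((u_eq_one m).2 ⟨rfl, ?_⟩) h1
      have h0 : th m (0 : F) = 0 := by simp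
      rw [h0, zero_mul, add_zero] at hy
      linear_combination hy

theorem U_nonabelian :
    ∃ g ∈ (Suzuki.U m : Subgroup (Cfsg.Sz F m)), ∃ g' ∈ Suzuki.U m, g * g' ≠ g' * g := by
  obtain ⟨x, hx0, hx1⟩ := exists_ne_zero_one (F := F) m
  refine ⟨u m 1 0, u_mem_U m _ _, u m x 0, u_mem_U m _ _, fun h => ?_⟩
  have hc := u_commutator (F := F) m 1 0 x 0
  rw [commutatorElement_def, h] at hc
  simp only [mul_inv_cancel_right, mul_inv_cancel, th_one, one_mul, mul_one] at hc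
  have h0 : x + th m x = 0 := ((u_eq_one m).1 hc.symm).2
  apply hx1
  have hz : th m x = x := by linear_combination h0 - x * two_eq_zero (F := F) m
  have h2 : x ^ 2 = x := by
    have := th_th (F := F) m x
    rw [hz, hz] at this
    exact this.symm
  exact mul_right_cancel₀ hx0 (by rw [one_mul, ← sq, h2])

end model

section main

variable {G Ω : Type*} [Group G] [IsSimpleGroup G] [MulAction G Ω] {a b : Ω} {H : Subgroup G}

/-- Simple Zassenhaus groups with non-abelian two-group kernel are Suzuki groups. -/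
theorem exists_mulEquiv_sz (hH : IsKer a H) (hZ : Cfsg.IsZassenhausGroup G Ω) (hab : a ≠ b)
    (hH2 : IsPGroup 2 H) (hna : ∃ u ∈ H, ∃ v ∈ H, u * v ≠ v * u) :
    ∃ m : ℕ, 1 ≤ m ∧ Nat.card Ω = (2 ^ (2 * m + 1)) ^ 2 + 1 ∧
      ∀ (F : Type) [Field F] [Fintype F] [Suzuki.SzField F m],
        Nonempty (G ≃* Cfsg.Sz F m) := by
  have hΩ : Finite Ω := Nat.finite_of_card_ne_zero (by rw [← hH.card]; omega)
  have hG := finite_of_zas hZ
  obtain ⟨n, hn, hnodd, hcard, hch⟩ := exists_chart hH hZ hab hH2 hna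
  obtain ⟨m, rfl⟩ := hnodd
  refine ⟨m, by omega, hcard, fun F _ _ _ => ?_⟩
  have hF : Fintype.card F = 2 ^ (2 * m + 1) := Suzuki.SzField.card_eq
  obtain ⟨d, c, hd, hdn, ⟨C⟩⟩ := hch F hF
  obtain ⟨d', hd', ⟨C'⟩⟩ := C.exists_norm hF hn hd hdn
  have hm : d' = m := by omega
  subst hm
  have := Suzuki.isSimpleGroup (F := F) d'
  have hne : (Suzuki.oInf d' : suzukiOvoid F d') ≠ Suzuki.oPt d' 0 0 :=
    (Suzuki.oPt_ne_oInf _ _ _).symm
  obtain ⟨n₂, hn₂, -, hcard₂, hch₂⟩ :=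
    exists_chart (isKer_U d') (Suzuki.isZassenhaus d') hne (Suzuki.isPGroup_U d') (U_nonabelian d')
  have hnn : n₂ = 2 * d' + 1 := by
    rw [Suzuki.card_ovoid, Suzuki.card_nat (F := F) d', ← pow_mul, ← pow_mul] at hcard₂
    have := Nat.pow_right_injective le_rfl (Nat.add_right_cancel hcard₂)
    omega
  subst hnn
  obtain ⟨d₂, c₂, hd₂, hdn₂, ⟨C₂⟩⟩ := hch₂ F hF
  obtain ⟨d₂', hd₂', ⟨C₂'⟩⟩ := C₂.exists_norm hF hn hd₂ hdn₂
  have : d₂' = d' := by omega
  subst this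
  exact C'.nonempty_mulEquiv C₂'

/-- Simple Zassenhaus groups with non-abelian two-group kernel are Suzuki groups. -/
theorem isoSuzuki (hH : IsKer a H) (hZ : Cfsg.IsZassenhausGroup G Ω) (hab : a ≠ b)
    (hH2 : IsPGroup 2 H) (hna : ∃ u ∈ H, ∃ v ∈ H, u * v ≠ v * u) : Cfsg.Lie.IsoSuzuki G := by
  obtain ⟨m, hm, -, h⟩ := exists_mulEquiv_sz hH hZ hab hH2 hna
  have h2 : Fact (Nat.Prime 2) := ⟨Nat.prime_two⟩
  let F : Type := GaloisField 2 (2 * m + 1)
  have : Fintype F := Fintype.ofFinite F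
  have hF : Fintype.card F = 2 ^ (2 * m + 1) := by
    rw [← Nat.card_eq_fintype_card, GaloisField.card 2 _ (by omega)]
  have : Suzuki.SzField F m := ⟨hF, hm⟩
  obtain ⟨e⟩ := h F
  exact ⟨F, inferInstance, inferInstance, m, hm, hF, ⟨e.trans (Suzuki.lieEquiv m)⟩⟩

end main

end Cfsg.Agent.H70.SzUnique
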