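import Cfsg.Agent.H70.SzUnique.Params

/-!
Field coordinates from a regular cyclic operator group, quadratic powers, and splitting of
symmetric two-cocycles.
-/

set_option autoImplicit false

namespace Cfsg.Agent.H70.SzUnique

open Polynomial

/-- An abelian group with an abelian group of operators regular on its non-trivial elements is the
additive group of a field acted on by its multiplicative group. -/
theorem exists_coords {V K : Type*} [CommGroup V] [Finite V] [CommGroup K] [Finite K]
    (act : K →* MulAut V) {n : ℕ} (hV : Nat.card V = 2 ^ n) (hK : Nat.card K + 1 = 2 ^ n)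
    (hfree : ∀ k : K, ∀ v : V, v ≠ 1 → act k v = v → k = 1)
    {F : Type*} [Field F] [Fintype F] (hF : Fintype.card F = 2 ^ n) {v₀ : V} (hv₀ : v₀ ≠ 1) :
    ∃ (ι : F → V) (κ : Fˣ →* K), Function.Bijective ι ∧ Function.Bijective κ ∧
      (∀ x y, ι (x + y) = ι x * ι y) ∧ ι 1 = v₀ ∧
      ∀ (t : Fˣ) x, act (κ t) (ι x) = ι ((t : F) * x) := by
  classical
  have := Fintype.ofFinite V
  have := Fintype.ofFinite K
  have horb : Function.Bijective fun k : K => (⟨act k v₀, fun h => hv₀ ((act k).map_eq_one_iff.1 h)⟩ :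
      {v : V // v ≠ 1}) := by
    refine (Nat.bijective_iff_injective_and_card _).2 ⟨fun k k' h => ?_, ?_⟩
    · have h' : act k v₀ = act k' v₀ := congrArg Subtype.val h
      refine (inv_mul_eq_one.1 (hfree (k'⁻¹ * k) v₀ hv₀ ?_)).symm
      rw [map_mul, MulAut.mul_apply, h', map_inv, MulAut.inv_apply, MulEquiv.symm_apply_apply]
    · have h2 := Nat.card_congr (Equiv.optionSubtypeNe (1 : V))
      rw [Finite.card_option, hV, ← hK] at h2
      omega
  let opn : K → AddMonoid.End (Additive V) := fun k => MonoidHom.toAdditive (act k).toMonoidHom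
  let R : Subring (AddMonoid.End (Additive V)) := Subring.centralizer (Set.range opn)
  have hopn : ∀ k (v : V), opn k (Additive.ofMul v) = Additive.ofMul (act k v) := fun k v => rfl
  have hmem : ∀ k, opn k ∈ R := by
    intro k
    rw [Subring.mem_centralizer_iff]
    rintro _ ⟨k', rfl⟩
    refine AddMonoidHom.ext fun v => ?_
    show Additive.ofMul (act k' (act k v.toMul)) = Additive.ofMul (act k (act k' v.toMul))
    rw [← MulAut.mul_apply, ← map_mul, mul_comm, map_mul, MulAut.mul_apply]
  have hcomm : ∀ ψ : R, ∀ k (v : Additive V), (ψ : AddMonoid.End (Additive V)) (opn k v) =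
      opn k ((ψ : AddMonoid.End (Additive V)) v) := fun ψ k v =>
    (DFunLike.congr_fun (Subring.mem_centralizer_iff.1 ψ.2 _ ⟨k, rfl⟩) v).symm
  let ev : R → Additive V := fun ψ => (ψ : AddMonoid.End (Additive V)) (Additive.ofMul v₀)
  have hev_inj : Function.Injective ev := by
    intro ψ φ h
    refine Subtype.ext (AddMonoidHom.ext fun v => ?_)
    by_cases hv : v.toMul = 1
    · have : v = 0 := hv
      rw [this]
      exact (AddMonoidHom.map_zero _).trans (AddMonoidHom.map_zero _).symm
    · obtain ⟨k, hk⟩ := horb.2 ⟨v.toMul, hv⟩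
      have hk' : opn k (Additive.ofMul v₀) = v := congrArg Subtype.val hk
      rw [← hk']
      exact (hcomm ψ k _).trans ((congrArg (opn k) h).trans (hcomm φ k _).symm)
  have hev_opn : ∀ k, ev ⟨opn k, hmem k⟩ = Additive.ofMul (act k v₀) := fun k => rfl
  have hev_surj : Function.Surjective ev := by
    intro v
    by_cases hv : v.toMul = 1
    · exact ⟨0, hv.symm⟩
    · obtain ⟨k, hk⟩ := horb.2 ⟨v.toMul, hv⟩
      exact ⟨⟨opn k, hmem k⟩, congrArg Subtype.val hk⟩
  have hcases : ∀ ψ : R, ψ = 0 ∨ ∃ k, ψ = ⟨opn k, hmem k⟩ := by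
    intro ψ
    by_cases hv : (ev ψ).toMul = 1
    · exact Or.inl (hev_inj (show ev ψ = ev 0 from hv))
    · obtain ⟨k, hk⟩ := horb.2 ⟨(ev ψ).toMul, hv⟩
      exact Or.inr ⟨k, hev_inj (show ev ψ = Additive.ofMul (act k v₀) from (congrArg Subtype.val hk).symm)⟩
  letI : CommRing R :=
    { Subring.toRing R with
      mul_comm := fun ψ φ => by
        rcases hcases ψ with rfl | ⟨k, rfl⟩
        · simp
        · exact Subtype.ext (AddMonoidHom.ext fun v => (hcomm φ k v).symm) }
  have : Nontrivial R := ⟨⟨0, 1, fun h => hv₀ (show (Additive.ofMul v₀).toMul = 1 from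
    (congrArg ev h).symm)⟩⟩
  have : NoZeroDivisors R := ⟨fun {ψ φ} h => by
    rcases hcases ψ with h' | ⟨k, rfl⟩
    · exact Or.inl h'
    · refine Or.inr (Subtype.ext (AddMonoidHom.ext fun v => ?_))
      have h1 : opn k ((φ : AddMonoid.End (Additive V)) v) = 0 :=
        DFunLike.congr_fun (congrArg Subtype.val h) v
      exact (act k).map_eq_one_iff.1 h1⟩
  have : IsDomain R := NoZeroDivisors.to_isDomain R
  have : Fintype R := Fintype.ofBijective _ (Function.bijective_iff_has_inverse.2
    ⟨ev, fun v => (Equiv.ofBijective ev ⟨hev_inj, hev_surj⟩).apply_symm_apply v,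
      fun ψ => (Equiv.ofBijective ev ⟨hev_inj, hev_surj⟩).symm_apply_apply ψ⟩ :
      Function.Bijective (Equiv.ofBijective ev ⟨hev_inj, hev_surj⟩).symm)
  letI : Field R := Fintype.fieldOfDomain R
  have hcardR : Fintype.card R = Fintype.card F := by
    rw [hF, ← hV, ← Nat.card_eq_fintype_card, Nat.card_eq_of_bijective ev ⟨hev_inj, hev_surj⟩]
    rfl
  let σ : F ≃+* R := FiniteField.ringEquivOfCardEq hcardR.symm
  have hσ : ∀ t : Fˣ, ∃ k, σ (t : F) = ⟨opn k, hmem k⟩ := fun t =>
    (hcases _).resolve_left (fun h => t.ne_zero (σ.injective (by rw [h, map_zero])))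
  choose κ hκ using hσ
  have hopn_inj : ∀ {k k' : K}, (⟨opn k, hmem k⟩ : R) = ⟨opn k', hmem k'⟩ → k = k' := fun h =>
    horb.1 (Subtype.ext (congrArg (fun ψ => (ev ψ).toMul) h))
  have hmulκ : ∀ s t, κ (s * t) = κ s * κ t := fun s t => hopn_inj (by
    rw [← hκ, Units.val_mul, map_mul, hκ, hκ]
    exact Subtype.ext (AddMonoidHom.ext fun v => congrArg Additive.ofMul
      (DFunLike.congr_fun (map_mul act (κ s) (κ t)) v.toMul).symm))
  let κ' : Fˣ →* K := MonoidHom.mk' κ hmulκ
  refine ⟨fun x => (ev (σ x)).toMul, κ', ?_, ?_, fun x y => ?_, ?_, fun t x => ?_⟩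
  · exact Additive.toMul.bijective.comp (Function.Bijective.comp (g := ev) ⟨hev_inj, hev_surj⟩ σ.bijective)
  · refine (Nat.bijective_iff_injective_and_card _).2 ⟨fun s t h => ?_, ?_⟩
    · refine Units.ext (σ.injective ?_)
      simp only [hκ]
      exact congrArg (fun k => (⟨opn k, hmem k⟩ : R)) h
    · rw [Nat.card_units, Nat.card_eq_fintype_card, hF]
      omega
  · show (ev (σ (x + y))).toMul = _
    rw [map_add]
    rfl
  · show (ev (σ 1)).toMul = v₀
    rw [map_one]
    rfl
  · show act (κ t) (ev (σ x)).toMul = (ev (σ ((t : F) * x))).toMul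
    rw [map_mul, hκ]
    rfl

/-- The top binary digit of `m` is a term of the binomial expansion. -/
theorem choose_log_odd : ∀ (L m : ℕ), 2 ^ L ≤ m → m < 2 ^ (L + 1) → m.choose (2 ^ L) % 2 = 1
  | 0, m, h1, h2 => by
    obtain rfl : m = 1 := by simp at h1 h2; omega
    rfl
  | L + 1, m, h1, h2 => by
    have : Fact (Nat.Prime 2) := ⟨Nat.prime_two⟩
    have h := Choose.choose_modEq_choose_mod_mul_choose_div_nat (p := 2) (n := m) (k := 2 ^ (L + 1))
    have e1 : 2 ^ (L + 1) % 2 = 0 := Nat.mod_eq_zero_of_dvd (dvd_pow_self 2 (by omega))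
    have e2 : 2 ^ (L + 1) / 2 = 2 ^ L := by rw [pow_succ, Nat.mul_div_cancel _ (by norm_num)]
    rw [e1, e2, Nat.choose_zero_right, one_mul, Nat.ModEq] at h
    rw [h]
    exact choose_log_odd L (m / 2) (by rw [pow_succ] at h1; omega)
      (by rw [pow_succ] at h2; omega)

/-- A power below the order of the field with biadditive polar form has weight at most two. -/
theorem weight_two {F : Type*} [Field F] [Fintype F] [CharP F 2] {k : ℕ} (hk0 : k ≠ 0)
    (hk : k < Fintype.card F)
    (hbi : ∀ x y : F, (x + y + 1) ^ k + (x + y) ^ k + 1 =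
      ((x + 1) ^ k + x ^ k + 1) + ((y + 1) ^ k + y ^ k + 1)) :
    (∃ i, k = 2 ^ i) ∨ ∃ i j, i ≠ j ∧ k = 2 ^ i + 2 ^ j := by
  classical
  set P : F[X] := (X + 1) ^ k + X ^ k + 1 with hP
  have hdeg : P.natDegree ≤ k := by
    refine (natDegree_add_le _ _).trans (max_le ((natDegree_add_le _ _).trans (max_le ?_ ?_)) ?_)
    · refine natDegree_pow_le.trans ?_
      have : (X + 1 : F[X]).natDegree ≤ 1 := (natDegree_add_le _ _).trans (by simp)
      calc k * (X + 1 : F[X]).natDegree ≤ k * 1 := Nat.mul_le_mul_left _ this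
        _ = k := mul_one k
    · simp
    · simp
  have hev : ∀ x, P.eval x = (x + 1) ^ k + x ^ k + 1 := fun x => by simp [hP]
  have hcoeff : ∀ j, 0 < j → j < k → P.coeff j = (k.choose j : F) := by
    intro j h0 hj
    rw [hP, coeff_add, coeff_add, coeff_X_add_one_pow, coeff_X_pow, coeff_one, if_neg hj.ne,
      if_neg h0.ne', add_zero, add_zero]
  have key : ∀ i j, 0 < i → i < j → j < k → (j.choose i : F) * (k.choose j : F) = 0 := by
    intro i j hi hij hj
    have h0 : hasseDeriv i P - C (P.coeff i) = 0 := by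
      refine Polynomial.eq_zero_of_natDegree_lt_card_of_eval_eq_zero _ Function.injective_id
        (fun y => ?_) ?_
      · have hQ : taylor y P - P - C (P.eval y) = 0 := by
          refine Polynomial.eq_zero_of_natDegree_lt_card_of_eval_eq_zero _ Function.injective_id
            (fun x => ?_) ?_
          · simp only [id_eq, eval_sub, eval_C, taylor_apply, eval_comp, eval_add, eval_X, hev,
              hbi x y]
            ring
          · refine lt_of_le_of_lt ((natDegree_sub_le _ _).trans (max_le ((natDegree_sub_le _ _).trans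
              (max_le (by rw [natDegree_taylor]; exact hdeg) hdeg)) (by simp))) hk
        have h := congrArg (fun Q => coeff Q i) hQ
        simp only [coeff_sub, taylor_coeff, coeff_C, if_neg hi.ne', sub_zero, coeff_zero] at h
        simpa using h
      · refine lt_of_le_of_lt ((natDegree_sub_le _ _).trans (max_le
          ((natDegree_hasseDeriv_le _ _).trans (by omega)) (by simp))) hk
    have h := congrArg (fun Q => coeff Q (j - i)) h0
    simp only [coeff_sub, hasseDeriv_coeff, coeff_C, if_neg (show j - i ≠ 0 by omega), sub_zero,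
      coeff_zero, Nat.sub_add_cancel hij.le, hcoeff j (by omega) hj] at h
    exact h
  have hodd : ∀ m : ℕ, m % 2 = 1 → ((m : ℕ) : F) ≠ 0 := fun m hm h => by
    have := Nat.mod_eq_zero_of_dvd ((CharP.cast_eq_zero_iff F 2 m).1 h)
    omega
  set L := Nat.log 2 k with hL
  have hL1 : 2 ^ L ≤ k := Nat.pow_log_le_self 2 hk0
  have hL2 : k < 2 ^ (L + 1) := Nat.lt_pow_succ_log_self (by norm_num) k
  rcases eq_or_lt_of_le hL1 with h | h
  · exact Or.inl ⟨L, h.symm⟩
  set j := k - 2 ^ L with hj
  set M := Nat.log 2 j with hM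
  have hM1 : 2 ^ M ≤ j := Nat.pow_log_le_self 2 (by omega)
  have hM2 : j < 2 ^ (M + 1) := Nat.lt_pow_succ_log_self (by norm_num) j
  rcases eq_or_lt_of_le hM1 with h' | h'
  · refine Or.inr ⟨L, M, fun hLM => ?_, by omega⟩
    rw [pow_succ] at hL2
    rw [← hLM] at h'
    omega
  exfalso
  have := Nat.two_pow_pos L
  have h1 := key (2 ^ M) j (Nat.two_pow_pos M) h' (by omega)
  rw [show k.choose j = k.choose (2 ^ L) from Nat.choose_symm hL1] at h1
  rcases mul_eq_zero.1 h1 with h2 | h2
  · exact hodd _ (choose_log_odd M j hM1 hM2) h2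
  · exact hodd _ (choose_log_odd L k hL1 hL2) h2

/-- Carrier of the extension attached to a cocycle. -/
@[ext] structure CExt (F : Type*) where
  fst : F
  snd : F

/-- A symmetric two-cocycle with zero diagonal splits. -/
theorem cocycle_split {F : Type*} [Field F] [CharP F 2] (D : F → F → F)
    (hsymm : ∀ x y, D x y = D y x) (hdiag : ∀ x, D x x = 0) (h0 : ∀ x, D 0 x = 0)
    (hco : ∀ x y z, D x y + D (x + y) z = D y z + D x (y + z)) :
    ∃ ψ : F → F, ∀ x y, D x y = ψ (x + y) + ψ x + ψ y := by
  letI : Add (CExt F) := ⟨fun u v => ⟨u.fst + v.fst, u.snd + v.snd + D u.fst v.fst⟩⟩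
  letI : Zero (CExt F) := ⟨⟨0, 0⟩⟩
  letI : Neg (CExt F) := ⟨fun u => u⟩
  have add_def : ∀ u v : CExt F, u + v = ⟨u.fst + v.fst, u.snd + v.snd + D u.fst v.fst⟩ := fun _ _ => rfl
  have zero_def : (0 : CExt F) = ⟨0, 0⟩ := rfl
  have hself : ∀ u : CExt F, u + u = 0 := fun u => by
    simp [add_def, zero_def, hdiag, CharTwo.add_self_eq_zero]
  letI : AddCommGroup (CExt F) :=
    { add_assoc := fun u v w => by
        refine CExt.ext (add_assoc _ _ _) ?_
        simp only [add_def]
        linear_combination hco u.fst v.fst w.fst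
      zero_add := fun u => by simp [add_def, zero_def, h0]
      add_zero := fun u => by simp [add_def, zero_def, hsymm _ 0, h0]
      neg_add_cancel := fun u => hself u
      add_comm := fun u v => by
        simp only [add_def, CExt.mk.injEq]
        exact ⟨add_comm _ _, by rw [hsymm]; ring⟩
      nsmul := nsmulRec
      zsmul := zsmulRec }
  letI : Module (ZMod 2) (CExt F) := AddCommGroup.zmodModule fun u => by rw [two_nsmul]; exact hself u
  letI : Module (ZMod 2) F := AddCommGroup.zmodModule fun x => by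
    rw [two_nsmul]; exact CharTwo.add_self_eq_zero x
  let π : CExt F →+ F := { toFun := CExt.fst, map_zero' := rfl, map_add' := fun _ _ => rfl }
  obtain ⟨σ, hσ⟩ := (π.toZModLinearMap 2).exists_rightInverse_of_surjective
    (LinearMap.range_eq_top.2 fun x => ⟨⟨x, 0⟩, rfl⟩)
  have hfst : ∀ x, (σ x).fst = x := fun x => LinearMap.congr_fun hσ x
  refine ⟨fun x => (σ x).snd, fun x y => ?_⟩
  have h := congrArg CExt.snd (map_add σ x y)
  rw [add_def, hfst, hfst] at h
  simp only at h
  linear_combination (norm := sz_two) h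

end Cfsg.Agent.H70.SzUnique
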