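import Cfsg.Agent.H65.CIT.Independent
import Cfsg.Agent.H70.SzUnique.Main

/-!
A group with a centraliser-closed TI subgroup of even order is simple, and is `PSL(2,2^n)` or a Suzuki group.
-/

set_option autoImplicit false
set_option linter.style.haveILetI false

namespace Cfsg.Agent.H70.SzUnique

open MulAction H65.CIT

universe u

variable {G : Type u} [Group G] [Finite G] (F : Frame G)

include F in
/-- A normal subgroup containing an involution is everything. -/
theorem eq_top_of_invol {K : Subgroup G} [hK : K.Normal] {u : G} (hu : orderOf u = 2) (huK : u ∈ K) :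
    K = ⊤ := by
  have hinv : ∀ w : G, orderOf w = 2 → w ∈ K := by
    obtain ⟨g, hg⟩ := F.exists_conj hu
    have hz : F.z ∈ K := by
      have h := hK.conj_mem u huK g⁻¹
      rwa [← hg, show g⁻¹ * (g * F.z * g⁻¹) * g⁻¹⁻¹ = F.z by group] at h
    intro w hw
    obtain ⟨g', rfl⟩ := F.exists_conj hw
    exact hK.conj_mem _ hz g'
  obtain ⟨P, hP⟩ := F.exists_ne_base
  obtain ⟨x, hx, hxP, -⟩ := F.exists_swap (P := P)
  have hE : ∀ e ∈ F.two P, e ∈ K := by
    intro e he
    have h1 : x * e * x⁻¹ * e⁻¹ ∈ K := by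
      have h := mul_mem (hinv x hx) (hK.conj_mem _ (inv_mem (hinv x hx)) e)
      rwa [show x * (e * x⁻¹ * e⁻¹) = x * e * x⁻¹ * e⁻¹ by group] at h
    rw [F.inverts hP hx hxP he] at h1
    have h2 : e ^ 2 ∈ K := by
      have := inv_mem h1
      rwa [mul_inv_rev, inv_inv, ← pow_two] at this
    have hodd : Odd (orderOf e) := (F.odd_two hP).of_dvd_nat (Subgroup.orderOf_dvd_natCard _ he)
    obtain ⟨j, hj⟩ := hodd
    have h3 : (e ^ 2) ^ (j + 1) = e := by
      rw [← pow_mul, show 2 * (j + 1) = orderOf e + 1 by omega, pow_succ, pow_orderOf_eq_one,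
        one_mul]
    exact h3 ▸ pow_mem h2 _
  obtain ⟨e, he, he1⟩ : ∃ e ∈ F.two P, e ≠ 1 := by
    by_contra hcon
    push Not at hcon
    have h := F.card_two hP
    rw [(Subgroup.eq_bot_iff_forall _).2 hcon, Subgroup.card_bot] at h
    have := F.two_le_m
    omega
  have heN : e ∈ F.N := (F.mem_two.1 he).1
  have hM : F.M ≤ K := by
    let φ : F.M → F.M := fun a => ⟨(a : G)⁻¹ * (e * a * e⁻¹), mul_mem (inv_mem a.2) (F.conj_mem heN a.2)⟩
    have hφ : Function.Injective φ := by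
      intro a b hab
      have h : (a : G)⁻¹ * (e * a * e⁻¹) = (b : G)⁻¹ * (e * b * e⁻¹) := congrArg Subtype.val hab
      by_contra hne
      have hu1 : (b : G) * (a : G)⁻¹ ≠ 1 := fun h1 => hne (Subtype.ext (mul_inv_eq_one.1 h1).symm)
      have hc : Commute e ((b : G) * (a : G)⁻¹) := by
        show e * ((b : G) * (a : G)⁻¹) = (b : G) * (a : G)⁻¹ * e
        calc e * ((b : G) * (a : G)⁻¹)
            = (b : G) * ((b : G)⁻¹ * (e * b * e⁻¹)) * e * (a : G)⁻¹ := by group
          _ = (b : G) * ((a : G)⁻¹ * (e * a * e⁻¹)) * e * (a : G)⁻¹ := by rw [h]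
          _ = _ := by group
      exact he1 (F.eq_one_of_mem_two hP (F.centralizer_le (mul_mem b.2 (inv_mem a.2)) hu1 hc) he)
    intro m hm
    obtain ⟨a, ha⟩ := (Finite.injective_iff_surjective.1 hφ) ⟨m, hm⟩
    have ha' : (a : G)⁻¹ * (e * a * e⁻¹) = m := congrArg Subtype.val ha
    rw [← ha', show (a : G)⁻¹ * (e * a * e⁻¹) = (a : G)⁻¹ * e * (a : G)⁻¹⁻¹ * e⁻¹ by group]
    exact mul_mem (hK.conj_mem _ (hE e he) _) (inv_mem (hE e he))
  have hN : F.N ≤ K := by
    intro n hn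
    obtain ⟨d, hd⟩ := (F.two_toQuot_bijective hP).2 ((⟨n, hn⟩ : ↥F.N) : ↥F.N ⧸ F.M.subgroupOf F.N)
    have h := QuotientGroup.eq.1 hd
    rw [Subgroup.mem_subgroupOf] at h
    have h' := mul_mem (hE d d.2) (hM h)
    simpa using h'
  refine (Subgroup.eq_top_iff' _).2 fun g => ?_
  obtain ⟨y, hy, hyg, -⟩ := F.exists_swap (P := g • F.base)
  have h := hN (F.smul_base.1 (show (y⁻¹ * g) • F.base = F.base by rw [mul_smul, ← hyg, inv_smul_smul]))
  simpa using mul_mem (hinv y hy) h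

include F in
/-- A group with a frame is simple. -/
theorem isSimpleGroup_of_frame : IsSimpleGroup G := by
  have : Nontrivial G := ⟨F.z, 1, H65.ne_one_of_orderOf F.hz⟩
  refine ⟨fun K hK => or_iff_not_imp_left.2 fun hne => ?_⟩
  by_contra htop
  refine hne (F.odd_core K hK (Nat.not_even_iff_odd.1 fun he => htop ?_))
  haveI : Fact (Nat.Prime 2) := ⟨Nat.prime_two⟩
  obtain ⟨⟨w, hw⟩, hw2⟩ := exists_prime_orderOf_dvd_card' 2 (even_iff_two_dvd.1 he)
  rw [← Subgroup.orderOf_coe] at hw2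
  exact eq_top_of_invol F hw2 hw

include F in
/-- A group with a frame is `PSL(2,2^n)` or a Suzuki group, up to isomorphism. -/
theorem classification_of_frame :
    IsSimpleGroup G ∧
    ((∃ n : ℕ, 2 ≤ n ∧
      Nonempty (G ≃* Matrix.ProjectiveSpecialLinearGroup (Fin 2) (GaloisField 2 n))) ∨
    Cfsg.Lie.IsoSuzuki G) := by
  classical
  have hs := isSimpleGroup_of_frame F
  refine ⟨hs, ?_⟩
  have hM2 := F.isPGroup_M
  obtain ⟨hZ, hker⟩ := F.zassenhaus
  obtain ⟨P, hP⟩ := F.exists_ne_base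
  by_cases hc : ∀ a ∈ F.M, ∀ b ∈ F.M, Commute a b
  swap
  · right
    push Not at hc
    obtain ⟨a, ha, b, hb, hab⟩ := hc
    exact isoSuzuki hker hZ hP.symm hM2 ⟨a, ha, b, hb, hab⟩
  rcases F.classification with h | ⟨-, m, hm, hcard⟩
  · exact Or.inl h
  exfalso
  have hMm : F.m + 1 = Nat.card ↥F.M := by
    rcases H28.Zass.kernel_cases hker hZ hP.symm (fun a ha b hb => (hc a ha b hb).eq) with h | h
    · rwa [F.card_two hP] at h
    · have h2 := F.hz ▸ Subgroup.orderOf_dvd_natCard F.M F.z_mem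
      omega
  have hcard' := hker.card_group hZ hP.symm
  rw [F.card_points, F.card_two hP] at hcard'
  obtain ⟨k, hk⟩ := IsPGroup.iff_card.1 hM2
  rw [hcard, hk] at hcard'
  rw [hk] at hMm
  set q := 2 ^ (2 * m + 1) with hq
  have h1 : (q ^ 2) * ((q ^ 2 + 1) * (q - 1)) = 2 ^ k * ((2 ^ k + 1) * F.m) := by
    rw [← mul_assoc, hcard']; ring
  have hqe : q ^ 2 = 2 ^ ((2 * m + 1) * 2) := by rw [hq, ← pow_mul]
  have hqeven : Even q := Nat.even_pow.2 ⟨even_two, by omega⟩
  have hq1 : 1 ≤ q := Nat.one_le_two_pow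
  have hk0 : k ≠ 0 := by
    rintro rfl
    have := F.two_le_m
    omega
  have hkeven : Even (2 ^ k) := Nat.even_pow.2 ⟨even_two, hk0⟩
  have hodd1 : ¬ 2 ∣ (q ^ 2 + 1) * (q - 1) := by
    rw [← even_iff_two_dvd, Nat.even_mul, Nat.even_add_one, Nat.even_pow, Nat.even_sub hq1]
    simp [hqeven]
  have hodd2 : ¬ 2 ∣ (2 ^ k + 1) * F.m := by
    rw [← even_iff_two_dvd, Nat.even_mul, Nat.even_add_one]
    rintro (h | h)
    · exact h hkeven
    · exact Nat.not_even_iff_odd.2 (F.card_two hP ▸ F.odd_two hP) h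
  have hkk : k = (2 * m + 1) * 2 := by
    rw [hqe] at h1 hodd1
    refine le_antisymm ?_ ?_
    · exact Nat.pow_dvd_pow_iff_le_right'.1 ((((Nat.prime_two.coprime_iff_not_dvd.2 hodd1).pow_left k)
        ).dvd_of_dvd_mul_right (h1 ▸ dvd_mul_right _ _))
    · exact Nat.pow_dvd_pow_iff_le_right'.1 ((((Nat.prime_two.coprime_iff_not_dvd.2 hodd2).pow_left _)
        ).dvd_of_dvd_mul_right (h1.symm ▸ dvd_mul_right _ _))
  subst hkk
  rw [← hqe] at h1 hMm
  have h3 := Nat.eq_of_mul_eq_mul_left (by positivity) h1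
  have h4 : q - 1 = F.m := Nat.eq_of_mul_eq_mul_left (by positivity) h3
  have h5 : q < q ^ 2 := by
    have : 2 ≤ q := le_trans (by norm_num) (Nat.pow_le_pow_right (by norm_num) (show 1 ≤ 2 * m + 1 by omega))
    nlinarith
  omega

end Cfsg.Agent.H70.SzUnique
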