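import Cfsg.Agent.H70.SzUnique.Params

/-!
Groups with a chart satisfying the Suzuki equations are determined by the field.
-/

set_option autoImplicit false

namespace Cfsg.Agent.H70.SzUnique

open MulAction

/-- Coordinates on a doubly transitive group. -/
structure Chart (G Ω : Type*) [Group G] [MulAction G Ω] (F : Type*) [Field F] (d : ℕ) (c : F) where
  a : Ω
  b : Ω
  P : F × F → G
  h : Fˣ → G
  w : G
  ζ : F
  charTwo : CharP F 2
  s_inj : Function.Injective fun x : F => x ^ (1 + 2 ^ d)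
  zeta_ne : ζ ≠ 0
  hab : a ≠ b
  P_mul : ∀ u v, P u * P v = P (mulP d u v)
  h_P : ∀ (t : Fˣ) v, h t * P v = P (scl d (t : F) v) * h t
  P_a : ∀ v, P v • a = a
  h_a : ∀ t, h t • a = a
  h_b : ∀ t, h t • b = b
  reg_inj : ∀ u v, P u • b = P v • b → u = v
  reg_surj : ∀ x, x ≠ a → ∃ v, P v • b = x
  w_a : w • a = b
  w_b : w • b = a
  w_sq : w * w = 1
  w_h : ∀ t, w * h t = h t⁻¹ * w
  key : w * P (0, ζ) * w = P (1, c) * w * P (1, c + 1)
  gen : ∀ g : G, g • a = a → ∃ v t, g = P v * h t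
  faithful : FaithfulSMul G Ω

namespace Chart

variable {G Ω : Type*} [Group G] [MulAction G Ω] {F : Type*} [Field F] {d : ℕ} {c : F}
  (C : Chart G Ω F d c)

theorem P_zero : C.P 0 = 1 :=
  mul_left_cancel (a := C.P 0) (by rw [C.P_mul, zero_mulP, mul_one])

theorem ww (x : Ω) : C.w • C.w • x = x := by rw [smul_smul, C.w_sq, one_smul]

theorem P_b_ne (v : F × F) : C.P v • C.b ≠ C.a := fun h =>
  C.hab (smul_left_cancel (C.P v) ((C.P_a v).trans h.symm))

theorem w_P_ne {v : F × F} (hv : v ≠ 0) : C.w • C.P v • C.b ≠ C.a := by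
  intro h
  refine hv (C.reg_inj v 0 ?_)
  rw [C.P_zero, one_smul]
  have := congrArg (C.w • ·) h
  simp only [C.ww, C.w_a] at this
  exact this

open Classical in
/-- The permutation of the non-trivial elements of the kernel induced by `w`. -/
noncomputable def f (v : F × F) : F × F :=
  if hv : v ≠ 0 then (C.reg_surj _ (C.w_P_ne hv)).choose else 0

theorem f_spec {v : F × F} (hv : v ≠ 0) : C.P (C.f v) • C.b = C.w • C.P v • C.b := by
  rw [f, dif_pos hv]
  exact (C.reg_surj _ (C.w_P_ne hv)).choose_spec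

theorem f_ne_zero {v : F × F} (hv : v ≠ 0) : C.f v ≠ 0 := by
  intro h
  have := C.f_spec hv
  rw [h, C.P_zero, one_smul] at this
  have h2 := congrArg (C.w • ·) this
  simp only [C.ww, C.w_b] at h2
  exact C.P_b_ne v h2.symm

theorem f_eq {v u : F × F} (hv : v ≠ 0) (h : C.w • C.P v • C.b = C.P u • C.b) : C.f v = u :=
  C.reg_inj _ _ ((C.f_spec hv).trans h)

theorem law : Law F d c C.ζ C.f := by
  have := C.charTwo
  have he : mulP d (1, c) (1, c + 1) = (0 : F × F) := by
    refine Prod.ext (by simp [mulP, CharTwo.add_self_eq_zero]) ?_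
    simp only [mulP, one_pow, one_mul, Prod.snd_zero]
    linear_combination (c + 1) * CharTwo.two_eq_zero (R := F)
  have hinv : C.P (1, c + 1) * C.P (1, c) = 1 := by rw [C.P_mul, e_einv, C.P_zero]
  have hinv' : C.P (1, c) * C.P (1, c + 1) = 1 := by rw [C.P_mul, he, C.P_zero]
  refine ⟨C.charTwo, C.s_inj, C.zeta_ne, fun v hv => C.f_ne_zero hv, fun v hv => ?_,
    fun t v ht hv => ?_, ?_, ?_, fun v hv hvz => ?_⟩
  · exact C.f_eq (C.f_ne_zero hv) (by rw [C.f_spec hv, C.ww])
  · have hsv : scl d t v ≠ 0 := by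
      intro h
      refine hv (Prod.ext ?_ ?_)
      · simpa [scl, ht] using congrArg Prod.fst h
      · simpa [scl, ht] using congrArg Prod.snd h
    refine C.f_eq hsv ?_
    obtain ⟨u, rfl⟩ : ∃ u : Fˣ, (u : F) = t := ⟨Units.mk0 t ht, rfl⟩
    have e1 : C.P (scl d (u : F) v) • C.b = C.h u • C.P v • C.b := by
      rw [smul_smul, C.h_P, mul_smul, C.h_b]
    rw [e1, smul_smul C.w, C.w_h, mul_smul, ← C.f_spec hv, smul_smul, C.h_P, mul_smul, C.h_b,
      Units.val_inv_eq_inv_val]
  · refine C.f_eq (fun h => C.zeta_ne (congrArg Prod.snd h)) ?_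
    rw [← C.w_a, smul_smul (C.P (0, C.ζ)), smul_smul, ← mul_assoc, C.key, mul_smul, C.P_a,
      mul_smul]
  · refine C.f_eq (fun h => one_ne_zero (congrArg Prod.fst h)) ?_
    have e : C.w * C.P (1, c + 1) = C.P (1, c + 1) * (C.w * C.P (0, C.ζ) * C.w) := by
      rw [C.key, ← mul_assoc, ← mul_assoc, hinv, one_mul]
    rw [smul_smul, e, mul_smul, mul_smul, C.w_b, mul_smul, C.P_a, C.w_a]
  · have hz : mulP d (0, C.ζ) v ≠ 0 := by
      intro h
      refine hvz (Prod.ext ?_ ?_)
      · simpa [mulP] using congrArg Prod.fst h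
      · have h2 := congrArg Prod.snd h
        simp only [mulP, zero_mul, add_zero, Prod.snd_zero] at h2
        exact (add_eq_zero'.1 h2).symm
    have e : C.w • C.P (mulP d (0, C.ζ) v) • C.b =
        C.P (1, c) • C.w • C.P (mulP d (1, c + 1) (C.f v)) • C.b := by
      calc C.w • C.P (mulP d (0, C.ζ) v) • C.b
          = (C.w * C.P (0, C.ζ) * C.w) • C.w • C.P v • C.b := by
            rw [← C.P_mul, mul_smul, mul_smul, mul_smul, C.ww]
        _ = _ := by
            rw [C.key, ← C.f_spec hv, mul_smul, mul_smul, ← C.P_mul, mul_smul]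
    have hu : mulP d (1, c + 1) (C.f v) ≠ 0 := by
      intro h
      rw [h, C.P_zero, one_smul, C.w_b, C.P_a] at e
      exact C.w_P_ne hz e
    refine ⟨hu, C.f_eq hz ?_⟩
    rw [e, ← C.f_spec hu, smul_smul, C.P_mul]

variable [Fintype F] {n : ℕ}

/-- The same group in the coordinates belonging to the inverse automorphism. -/
noncomputable def flip (hq : Fintype.card F = 2 ^ n) (hd : d ≤ n) :
    Chart G Ω F (n - d) (c + 1) where
  a := C.a
  b := C.b
  P v := C.P (v.1 ^ 2 ^ (n - d), v.2 + (v.1 ^ 2 ^ (n - d)) ^ (1 + 2 ^ d))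
  h t := C.h (t ^ 2 ^ (n - d))
  w := C.w
  ζ := C.ζ
  charTwo := C.charTwo
  s_inj := by
    have := C.charTwo
    intro x y hxy
    refine iterateFrobenius_inj F 2 (n - d) (C.s_inj ?_)
    simp only [iterateFrobenius_def] at hxy ⊢
    have key : ∀ z : F, (z ^ 2 ^ (n - d)) ^ (1 + 2 ^ d) = z ^ (1 + 2 ^ (n - d)) := fun z => by
      rw [s_eq d, ← pow_mul, ← pow_add 2, Nat.sub_add_cancel hd, ← hq, FiniteField.pow_card,
        s_eq (n - d), mul_comm]
    rw [key, key]
    exact hxy
  zeta_ne := C.zeta_ne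
  hab := C.hab
  P_mul u v := by
    have := C.charTwo
    rw [C.P_mul]
    congr 1
    have key : ∀ z : F, (z ^ 2 ^ (n - d)) ^ 2 ^ d = z := fun z => by
      rw [← pow_mul, ← pow_add, Nat.sub_add_cancel hd, ← hq, FiniteField.pow_card]
    refine Prod.ext (by simp [mulP, th_add]) ?_
    simp only [mulP, s_eq, th_add, key]
    sz_two
  h_P t v := by
    rw [C.h_P]
    congr 2
    refine Prod.ext (by simp [scl, mul_pow]) ?_
    have key : ∀ z : F, (z ^ 2 ^ (n - d)) ^ 2 ^ d = z := fun z => by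
      rw [← pow_mul, ← pow_add, Nat.sub_add_cancel hd, ← hq, FiniteField.pow_card]
    simp only [scl, s_eq, Units.val_pow_eq_pow_val, mul_pow, key]
    ring
  P_a v := C.P_a _
  h_a t := C.h_a _
  h_b t := C.h_b _
  reg_inj u v h := by
    have := C.charTwo
    have h' := C.reg_inj _ _ h
    have h1 : u.1 = v.1 := iterateFrobenius_inj F 2 (n - d) (congrArg Prod.fst h')
    have h2 := congrArg Prod.snd h'
    simp only [h1, add_left_inj] at h2
    exact Prod.ext h1 h2
  reg_surj x hx := by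
    have := C.charTwo
    obtain ⟨v, hv⟩ := C.reg_surj x hx
    refine ⟨(v.1 ^ 2 ^ d, v.2 + v.1 ^ (1 + 2 ^ d)), ?_⟩
    have key : (v.1 ^ 2 ^ d) ^ 2 ^ (n - d) = v.1 := by
      rw [← pow_mul, ← pow_add, Nat.add_sub_cancel' hd, ← hq, FiniteField.pow_card]
    simp only [key, add_assoc, CharTwo.add_self_eq_zero, add_zero]
    exact hv
  w_a := C.w_a
  w_b := C.w_b
  w_sq := C.w_sq
  w_h t := by rw [C.w_h, inv_pow]
  key := by
    have := C.charTwo
    simp only [one_pow, zero_pow (Nat.two_pow_pos _).ne', add_assoc, CharTwo.add_self_eq_zero,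
      add_zero, zero_pow (show 1 + 2 ^ d ≠ 0 by simp)]
    exact C.key
  gen g hg := by
    have := C.charTwo
    obtain ⟨v, t, rfl⟩ := C.gen g hg
    refine ⟨(v.1 ^ 2 ^ d, v.2 + v.1 ^ (1 + 2 ^ d)), t ^ 2 ^ d, ?_⟩
    have key : ∀ z : F, (z ^ 2 ^ d) ^ 2 ^ (n - d) = z := fun z => by
      rw [← pow_mul, ← pow_add, Nat.add_sub_cancel' hd, ← hq, FiniteField.pow_card]
    have kt : (t ^ 2 ^ d) ^ 2 ^ (n - d) = t := Units.ext (by push_cast; exact key t)
    simp only [key, kt, add_assoc, CharTwo.add_self_eq_zero, add_zero]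
  faithful := C.faithful

theorem zeta_eq : C.ζ = 1 := C.law.zeta_eq_one

theorem law_one : Law F d c 1 C.f := C.zeta_eq ▸ C.law

include C in
/-- The parameters are those of the Suzuki groups, in one of two coordinate systems. -/
theorem exists_norm (hq : Fintype.card F = 2 ^ n) (hn : 3 ≤ n) (hd : 1 ≤ d) (hdn : d < n) :
    ∃ d' : ℕ, 2 * d' + 1 = n ∧ Nonempty (Chart G Ω F d' 0) := by
  have := C.charTwo
  let C' := C.flip hq hdn.le
  have h11 : (1 : F) + 1 = 0 := CharTwo.add_self_eq_zero 1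
  have hL := C.law_one
  have hL' : Law F (n - d) (c + 1) 1 C'.f := C'.law_one
  rcases Nat.lt_or_ge (d + 1) n with h1 | h1
  · rcases hL.c_cases hq hd (by omega) with h0 | h0
    · subst h0
      exact ⟨d, hL.theta_half hq hd (by omega), ⟨C⟩⟩
    · subst h0
      obtain ⟨C''⟩ : Nonempty (Chart G Ω F (n - d) 0) := ⟨h11 ▸ C'⟩
      have hL'' := C''.law_one
      rcases Nat.lt_or_ge 1 d with h2 | h2
      · exact ⟨n - d, hL''.theta_half hq (by omega) (by omega), ⟨C''⟩⟩
      · exact absurd hL'' (Law.not_last hq (by omega) hn)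
  · have hd1 : n - d = 1 := by omega
    rcases hL'.c_cases hq (by omega) (by omega) with h0 | h0
    · obtain ⟨C''⟩ : Nonempty (Chart G Ω F (n - d) 0) := ⟨h0 ▸ C'⟩
      exact ⟨n - d, C''.law_one.theta_half hq (by omega) (by omega), ⟨C''⟩⟩
    · have hc : c = 0 := by linear_combination h0
      subst hc
      exact absurd hL (Law.not_last hq (by omega) hn)

omit [Fintype F]

/-- The points of the doubly transitive set in coordinates. -/
noncomputable def optEquiv : Option (F × F) ≃ Ω :=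
  Equiv.ofBijective (fun x => x.elim C.a fun v => C.P v • C.b) ⟨by
    rintro (_ | u) (_ | v) h
    · rfl
    · exact absurd h.symm (C.P_b_ne v)
    · exact absurd h (C.P_b_ne u)
    · exact congrArg some (C.reg_inj u v h), fun x => by
    rcases eq_or_ne x C.a with rfl | hx
    · exact ⟨none, rfl⟩
    · obtain ⟨v, hv⟩ := C.reg_surj x hx
      exact ⟨some v, hv⟩⟩

/-- The permutation representation in coordinates. -/
noncomputable def rho : G →* Equiv.Perm (Option (F × F)) :=
  C.optEquiv.symm.permCongrHom.toMonoidHom.comp (MulAction.toPermHom G Ω)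

theorem rho_eq {g : G} {x y : Option (F × F)}
    (h : g • C.optEquiv x = C.optEquiv y) : C.rho g x = y := by
  show C.optEquiv.symm (g • C.optEquiv.symm.symm x) = y
  rw [Equiv.symm_symm, Equiv.symm_apply_eq]
  exact h

theorem rho_injective : Function.Injective C.rho := by
  have := C.faithful
  exact C.optEquiv.symm.permCongrHom.injective.comp MulAction.toPerm_injective

theorem rho_P (v : F × F) :
    ⇑(C.rho (C.P v)) = fun x => x.map (mulP d v) := by
  funext x
  refine C.rho_eq ?_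
  rcases x with _ | u
  · exact C.P_a v
  · show C.P v • C.P u • C.b = C.P (mulP d v u) • C.b
    rw [smul_smul, C.P_mul]

theorem rho_h (t : Fˣ) : ⇑(C.rho (C.h t)) = fun x => x.map (scl d (t : F)) := by
  funext x
  refine C.rho_eq ?_
  rcases x with _ | u
  · exact C.h_a t
  · show C.h t • C.P u • C.b = C.P (scl d (t : F) u) • C.b
    rw [smul_smul, C.h_P, mul_smul, C.h_b]

theorem rho_w [DecidableEq F] : ⇑(C.rho C.w) =
    fun x => x.elim (some 0) fun v => if v = 0 then none else some (C.f v) := by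
  funext x
  refine C.rho_eq ?_
  rcases x with _ | u
  · show C.w • C.a = C.P 0 • C.b
    rw [C.P_zero, one_smul, C.w_a]
  · show C.w • C.P u • C.b = C.optEquiv (if u = 0 then none else some (C.f u))
    rcases eq_or_ne u 0 with rfl | hu
    · rw [if_pos rfl, C.P_zero, one_smul, C.w_b]; rfl
    · rw [if_neg hu]; exact (C.f_spec hu).symm

theorem closure_eq_top :
    Subgroup.closure (Set.range C.P ∪ Set.range C.h ∪ {C.w}) = (⊤ : Subgroup G) := by
  refine eq_top_iff.2 fun g _ => ?_
  have hB : ∀ g : G, g • C.a = C.a →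
      g ∈ Subgroup.closure (Set.range C.P ∪ Set.range C.h ∪ {C.w}) := fun g hg => by
    obtain ⟨v, t, rfl⟩ := C.gen g hg
    exact mul_mem (Subgroup.subset_closure (Or.inl (Or.inl ⟨v, rfl⟩)))
      (Subgroup.subset_closure (Or.inl (Or.inr ⟨t, rfl⟩)))
  rcases eq_or_ne (g • C.a) C.a with hg | hg
  · exact hB g hg
  · obtain ⟨v, hv⟩ := C.reg_surj _ hg
    have h : ((C.P v * C.w)⁻¹ * g) • C.a = C.a := by
      rw [mul_smul, inv_smul_eq_iff, mul_smul, C.w_a, hv]
    rw [show g = C.P v * C.w * ((C.P v * C.w)⁻¹ * g) by group]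
    exact mul_mem (mul_mem (Subgroup.subset_closure (Or.inl (Or.inl ⟨v, rfl⟩)))
      (Subgroup.subset_closure (Or.inr rfl))) (hB _ h)

theorem range_le {G' Ω' : Type*} [Group G'] [MulAction G' Ω'] [Fintype F] (C : Chart G Ω F d 0)
    (C' : Chart G' Ω' F d 0) : C.rho.range ≤ C'.rho.range := by
  classical
  rw [MonoidHom.range_eq_map, ← C.closure_eq_top, MonoidHom.map_closure, Subgroup.closure_le]
  rintro _ ⟨g, (⟨v, rfl⟩ | ⟨t, rfl⟩) | hg, rfl⟩
  · exact ⟨C'.P v, DFunLike.coe_injective ((C'.rho_P v).trans (C.rho_P v).symm)⟩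
  · exact ⟨C'.h t, DFunLike.coe_injective ((C'.rho_h t).trans (C.rho_h t).symm)⟩
  · rw [Set.mem_singleton_iff.1 hg]
    refine ⟨C'.w, DFunLike.coe_injective ?_⟩
    rw [C'.rho_w, C.rho_w]
    funext x
    rcases x with _ | u
    · rfl
    · show (if u = 0 then none else some (C'.f u)) = if u = 0 then none else some (C.f u)
      split_ifs with hu
      · rfl
      · rw [C.law_one.unique C'.law_one u hu]

theorem nonempty_mulEquiv {G' Ω' : Type*} [Group G'] [MulAction G' Ω'] [Fintype F]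
    (C : Chart G Ω F d 0) (C' : Chart G' Ω' F d 0) : Nonempty (G ≃* G') :=
  ⟨(MonoidHom.ofInjective C.rho_injective).trans
    ((MulEquiv.subgroupCongr (le_antisymm (C.range_le C') (C'.range_le C))).trans
      (MonoidHom.ofInjective C'.rho_injective).symm)⟩

end Chart

end Cfsg.Agent.H70.SzUnique
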