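import Cfsg.Agent.H28.ZTSetup
import Cfsg.Agent.H70.SzUnique.Chart
import Cfsg.Agent.H70.SzUnique.Fields

/-!
Coordinates for a simple Zassenhaus group with non-abelian two-group kernel.
-/

set_option autoImplicit false

namespace Cfsg.Agent.H70.SzUnique

open MulAction H28 H28.Zass
open scoped Pointwise

section

variable {G Ω : Type*} [Group G] [MulAction G Ω] [Finite Ω] {a b : Ω} {H : Subgroup G}

/-- The swapping involution does not fix a point coming from the centre. -/
theorem fixed_not_central (hH : IsKer a H) (hZ : Cfsg.IsZassenhausGroup G Ω)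
    (hab : a ≠ b) {q : ℕ} (hq : 8 ≤ q) (hcardH : Nat.card H = q ^ 2)
    (hcardE : Nat.card ↥(stabilizer G a ⊓ stabilizer G b) + 1 = q)
    (hcardC : Nat.card (Subgroup.center H) = q)
    (htrans : ∀ z z' : H, z ∈ Subgroup.center H → z' ∈ Subgroup.center H → z ≠ 1 → z' ≠ 1 →
      ∃ x ∈ stabilizer G a ⊓ stabilizer G b, x * (z : G) * x⁻¹ = z')
    {s : G} (hsa : s • a = b) (hsb : s • b = a) (hss : s * s = 1)
    (hinv : ∀ x ∈ stabilizer G a ⊓ stabilizer G b, s * x * s⁻¹ = x⁻¹)
    {a₀ z₀ : H} (ha₀ : a₀ ∈ Subgroup.center H) (hz₀ : z₀ ∈ Subgroup.center H) (hz₀1 : z₀ ≠ 1)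
    (hkey : s * (z₀ : G) * s = (a₀ : G) * s * (a₀ : G)⁻¹) : False := by
  classical
  have := Fintype.ofFinite Ω
  have hsinv : s⁻¹ = s := inv_eq_of_mul_eq_one_right hss
  let W : Subgroup G := (Subgroup.center H).map H.subtype
  have hWH : W ≤ H := Subgroup.map_subtype_le _
  have hWc : Nat.card W = q := by
    rw [Subgroup.card_map_of_injective H.subtype_injective, hcardC]
  have hWmem : ∀ {v : H}, v ∈ Subgroup.center H → (v : G) ∈ W := fun {v} hv => ⟨v, hv, rfl⟩
  let B : Set Ω := insert a ((fun v : G => v • b) '' (W : Set G))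
  have hne : ∀ v ∈ W, v • b ≠ a := fun v hv h =>
    hab (MulAction.injective v ((hH.le (hWH hv) : v • a = a).trans h.symm))
  have hBcard : Nat.card B = q + 1 := by
    rw [Nat.card_coe_set_eq, Set.ncard_insert_of_notMem
        (by rintro ⟨v, hv, h⟩; exact hne v hv h) (Set.toFinite _),
      Set.InjOn.ncard_image, ← Nat.card_coe_set_eq, ← hWc]
    · rfl
    · intro v hv v' hv' h
      have h' : v'⁻¹ * v = 1 := hH.eq_one_of_fix (mul_mem (inv_mem (hWH hv')) (hWH hv)) hab.symm
        (by rw [mul_smul, inv_smul_eq_iff]; exact h)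
      exact (inv_mul_eq_one.1 h').symm
  have hmemB : ∀ g : G, (∀ y ∈ B, g • y ∈ B) → g ∈ stabilizer G B := fun g hg => by
    refine Set.eq_of_subset_of_ncard_le ?_ ?_ (Set.toFinite _)
    · rintro _ ⟨y, hy, rfl⟩; exact hg y hy
    · rw [Set.ncard_smul_set]
  have hWS : ∀ v ∈ W, v ∈ stabilizer G B := fun v hv => hmemB v (by
    rintro y (rfl | ⟨v', hv', rfl⟩)
    · exact Or.inl (hH.le (hWH hv))
    · exact Or.inr ⟨v * v', mul_mem hv hv', mul_smul _ _ _⟩)
  have hsS : s ∈ stabilizer G B := hmemB s (by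
    rintro y (rfl | ⟨_, ⟨v, hv, rfl⟩, rfl⟩)
    · exact Or.inr ⟨1, one_mem _, by rw [hsa]; exact one_smul G b⟩
    · show s • (v : G) • b ∈ B
      by_cases hv1 : v = 1
      · exact Or.inl (by rw [hv1, OneMemClass.coe_one, one_smul, hsb])
      · obtain ⟨x, hx, hxv⟩ := htrans z₀ v hz₀ hv hz₀1 hv1
        obtain ⟨hxa, hxb⟩ := mem_two.1 hx
        have hxi : s * x = x⁻¹ * s := by rw [← hinv x hx]; group
        obtain ⟨u, hu, hu'⟩ : ∃ u ∈ W, u • b = (x⁻¹ * (a₀ : G) * x) • b := by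
          refine ⟨x⁻¹ * (a₀ : G) * x, ?_, rfl⟩
          refine ⟨⟨x⁻¹ * (a₀ : G) * x⁻¹⁻¹, hH.conj_mem hZ (mem_two.1 (inv_mem hx)).1 a₀.2⟩, ?_, by
            show x⁻¹ * (a₀ : G) * x⁻¹⁻¹ = _
            rw [inv_inv]⟩
          exact Subgroup.mem_center_iff.2 fun w => Subtype.ext (by
            have hc := congrArg Subtype.val (Subgroup.mem_center_iff.1 ha₀
              ⟨x * (w : G) * x⁻¹, hH.conj_mem hZ hxa w.2⟩)
            simp only [Subgroup.coe_mul, inv_inv] at hc ⊢
            calc (w : G) * (x⁻¹ * a₀ * x) = x⁻¹ * (x * w * x⁻¹ * a₀) * x := by group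
              _ = x⁻¹ * (a₀ * (x * w * x⁻¹)) * x := by rw [hc]
              _ = x⁻¹ * a₀ * x * w := by group)
        refine Or.inr ⟨u, hu, ?_⟩
        show u • b = s • (v : G) • b
        have e1 : s * (z₀ : G) = (a₀ : G) * s * (a₀ : G)⁻¹ * s := by
          rw [← hkey, mul_assoc, hss, mul_one]
        have e2 : s * (v : G) = x⁻¹ * (a₀ : G) * s * (a₀ : G)⁻¹ * s * x⁻¹ := by
          rw [← hxv, show s * (x * (z₀ : G) * x⁻¹) = s * x * (z₀ : G) * x⁻¹ by group, hxi,
            show x⁻¹ * s * (z₀ : G) * x⁻¹ = x⁻¹ * (s * (z₀ : G)) * x⁻¹ by group, e1]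
          group
        rw [hu', smul_smul s, e2, mul_smul _ x⁻¹,
          show x⁻¹ • b = b from inv_smul_eq_iff.2 hxb.symm, mul_smul _ s, hsb, mul_smul _ (a₀ : G)⁻¹,
          show (a₀ : G)⁻¹ • a = a from inv_smul_eq_iff.2 (hH.le a₀.2 : (a₀ : G) • a = a).symm]
        simp only [mul_smul, hxb, hsa])
  have hdvd := ZT.card_orbit_set_dvd (G := G) (B := B) (x := a) (fun y hy => by
    rcases hy with rfl | ⟨v, hv, rfl⟩
    · exact ⟨1, one_mem _, one_smul _ _⟩
    · exact ⟨v * s, mul_mem (hWS v hv) hsS, by rw [mul_smul, hsa]⟩) (Or.inl rfl)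
  rw [hBcard, hH.card_group hZ hab, ← hH.card, hcardH] at hdvd
  have hcast := Int.natCast_dvd_natCast.2 hdvd
  have heZ : (Nat.card ↥(stabilizer G a ⊓ stabilizer G b) : ℤ) = (q : ℤ) - 1 := by
    have := congrArg (Nat.cast : ℕ → ℤ) hcardE
    push_cast at this
    linarith
  push_cast at hcast
  rw [heZ] at hcast
  have h4 : ((q : ℤ) + 1) ∣ 4 := by
    obtain ⟨c, hc⟩ := hcast
    exact ⟨(q : ℤ) ^ 4 - 2 * (q : ℤ) ^ 3 + 3 * (q : ℤ) ^ 2 - 4 * q + 4 - c,
      by linear_combination -hc⟩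
  have := Int.le_of_dvd (by norm_num) h4
  omega

variable [IsSimpleGroup G]

/-- The group has coordinates over every field of the right order. -/
theorem exists_chart (hH : IsKer a H) (hZ : Cfsg.IsZassenhausGroup G Ω) (hab : a ≠ b)
    (hH2 : IsPGroup 2 H) (hna : ∃ u ∈ H, ∃ v ∈ H, u * v ≠ v * u) :
    ∃ n : ℕ, 3 ≤ n ∧ Odd n ∧ Nat.card Ω = (2 ^ n) ^ 2 + 1 ∧
      ∀ (F : Type) [Field F] [Fintype F], Fintype.card F = 2 ^ n →
        ∃ (d : ℕ) (c : F), 1 ≤ d ∧ d < n ∧ Nonempty (Chart G Ω F d c) := by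
  classical
  have := finite_of_zas hZ
  obtain ⟨n, hnodd, hn1, hcardH, hcardE, hcyc, hS, hcardC⟩ := ZT.setup hH hZ hab hH2 hna
  have hn3 : 3 ≤ n := by obtain ⟨k, hk⟩ := hnodd; omega
  refine ⟨n, hn3, hnodd, by rw [← hH.card, hcardH], fun F _ _ hF => ?_⟩
  have hq8 : 8 ≤ 2 ^ n := le_trans (by norm_num) (Nat.pow_le_pow_right (by norm_num) hn3)
  have heven : 2 ∣ 2 ^ n := dvd_pow_self 2 (by omega)
  have hchar : CharP F 2 := by
    have : Fact (Nat.Prime 2) := ⟨Nat.prime_two⟩
    exact charP_of_card_eq_prime_pow hF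
  -- abbreviations
  let E := stabilizer G a ⊓ stabilizer G b
  letI : CommGroup ↥(stabilizer G a ⊓ stabilizer G b) := hcyc.commGroup
  have hodd : Odd (Nat.card ↥(stabilizer G a ⊓ stabilizer G b)) := by
    obtain ⟨k, hk⟩ := heven
    exact ⟨k - 1, by omega⟩
  obtain ⟨-, -, hinv⟩ := inverted_of_simple hZ hab hodd
  have hΩ : Odd (Nat.card Ω) := by
    rw [← hH.card, hcardH]
    exact (Nat.even_pow.2 ⟨Nat.even_pow.2 ⟨even_two, by omega⟩, two_ne_zero⟩).add_one
  obtain ⟨hinvc, -⟩ := S1137.result hS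
  obtain ⟨hsqc, hcomm, -, -⟩ := S1138.result hS
  have hcc : ∀ {z : H}, z ∈ Subgroup.center H → ∀ u, u * z = z * u := fun hz u =>
    Subgroup.mem_center_iff.1 hz u
  have hz2 : ∀ {z : H}, z ∈ Subgroup.center H → z * z = 1 := fun {z} hz => by
    by_cases h : z = 1
    · rw [h, mul_one]
    · exact ((hinvc z).2 ⟨hz, h⟩).2
  -- the two actions
  let cj := ZT.conjHom hH hZ b
  let actC : ↥(stabilizer G a ⊓ stabilizer G b) →* MulAut (Subgroup.center H) :=
    MonoidHom.mk' (fun x => Subgroup.centerCongr (cj x)) fun x y => MulEquiv.ext fun z =>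
      Subtype.ext (DFunLike.congr_fun (map_mul cj x y) (z : H))
  have hmap : ∀ x, (Subgroup.center H).map (cj x : H ≃* H).toMonoidHom = Subgroup.center H :=
    fun x => Subgroup.characteristic_iff_map_eq.1 inferInstance (cj x)
  let actQ : ↥(stabilizer G a ⊓ stabilizer G b) →* MulAut (H ⧸ Subgroup.center H) :=
    MonoidHom.mk' (fun x => QuotientGroup.congr _ _ (cj x) (hmap x)) fun x y => MulEquiv.ext fun v =>
      QuotientGroup.induction_on v fun u =>
        congrArg QuotientGroup.mk (DFunLike.congr_fun (map_mul cj x y) u)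
  letI : CommGroup (H ⧸ Subgroup.center H) :=
    { QuotientGroup.Quotient.group (Subgroup.center H) with
      mul_comm := fun u v => QuotientGroup.induction_on u fun x => QuotientGroup.induction_on v fun y => by
        refine QuotientGroup.eq.2 ?_
        have := hcomm y x
        rwa [show (x * y)⁻¹ * (y * x) = y⁻¹ * x⁻¹ * y * x by group] }
  letI : CommGroup (Subgroup.center H) :=
    { (inferInstance : Group (Subgroup.center H)) with
      mul_comm := fun u v => Subtype.ext (hcc v.2 (u : H)) }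
  have hfixC : ∀ x, ∀ z : Subgroup.center H, z ≠ 1 → actC x z = z → x = 1 := by
    intro x z hz h
    by_contra hx
    refine hz (Subtype.ext (Subtype.ext ?_))
    exact hH.fpf hZ hab x.2 (fun h' => hx (Subtype.ext h')) (z : H).2
      (congrArg (fun t : Subgroup.center H => ((t : H) : G)) h)
  have hfixQ : ∀ x, ∀ v : H ⧸ Subgroup.center H, v ≠ 1 → actQ x v = v → x = 1 := by
    intro x v
    refine QuotientGroup.induction_on v fun u hu h => ?_
    have huc : u ∉ Subgroup.center H := fun h' => hu ((QuotientGroup.eq_one_iff u).2 h')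
    have hw : (cj x u)⁻¹ * u ∈ Subgroup.center H := QuotientGroup.eq.1 h
    have hsq : cj x (u * u) = u * u := by
      obtain ⟨w, hw', hweq⟩ : ∃ w ∈ Subgroup.center H, cj x u = u * w :=
        ⟨((cj x u)⁻¹ * u)⁻¹, inv_mem hw, by group⟩
      rw [map_mul, hweq]
      calc u * w * (u * w) = u * (w * u) * w := by group
        _ = u * (u * w) * w := by rw [hcc hw' u]
        _ = u * u * (w * w) := by group
        _ = u * u := by rw [hz2 hw', mul_one]
    refine hfixC x ⟨u * u, hsqc u⟩ (fun h' => huc ?_) (Subtype.ext hsq)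
    exact ((hinvc u).1 ⟨fun h1 => huc (h1 ▸ one_mem _), congrArg Subtype.val h'⟩).1
  -- the swapping involution and the base elements
  obtain ⟨s, hsa, hsb⟩ := H33.zas_map_pair hZ hab hab.symm
  have hso := swap_orderOf hab hodd hinv hsa hsb
  have hss : s * s = 1 := by rw [← pow_two, ← hso, pow_orderOf_eq_one]
  have hsinv : s⁻¹ = s := inv_eq_of_mul_eq_one_right hss
  obtain ⟨p, hp⟩ : ∃ p, s • p = p := by
    have h := invol_fixed hZ hab hodd hso
    rw [if_pos hΩ] at h
    obtain ⟨p, hp⟩ := Set.ncard_eq_one.1 h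
    exact ⟨p, (hp.symm ▸ Set.mem_singleton p : p ∈ fixedBy Ω s)⟩
  have hpa : p ≠ a := fun h => hab (by rw [← hsa, ← h, hp])
  obtain ⟨v, hv, -⟩ := hH.regular hZ hab.symm hpa
  set a₀ : H := v⁻¹ with ha₀
  have hab0 : ((a₀ : G))⁻¹ • b = p := by rw [ha₀, Subgroup.coe_inv, inv_inv]; exact hv
  set z₀G : G := s * ((a₀ : G) * s * (a₀ : G)⁻¹) * s with hz₀G
  have hz₀o : orderOf z₀G = 2 := by
    rw [hz₀G, show s * ((a₀ : G) * s * (a₀ : G)⁻¹) * s =
      (s * a₀) * s * (s * a₀)⁻¹ by rw [mul_inv_rev, hsinv]; group, ← hso]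
    exact MulEquiv.orderOf_eq (MulAut.conj (s * (a₀ : G))) s
  have hz₀a : z₀G • a = a := by
    rw [hz₀G, mul_smul, hsa, mul_smul, mul_smul, mul_smul, hab0, hp, ← hab0, smul_inv_smul, hsb]
  let z₀ : H := ⟨z₀G, ZT.invol_mem hH hZ hab hodd hΩ hz₀o hz₀a⟩
  have hz₀1 : z₀ ≠ 1 := fun h => by
    have h' : z₀G = 1 := congrArg Subtype.val h
    rw [h', orderOf_one] at hz₀o
    norm_num at hz₀o
  have hz₀c : z₀ ∈ Subgroup.center H := by
    refine ((hinvc z₀).1 ⟨hz₀1, Subtype.ext ?_⟩).1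
    show z₀G * z₀G = 1
    rw [← pow_two, ← hz₀o, pow_orderOf_eq_one]
  have hkey : s * (z₀ : G) * s = (a₀ : G) * s * (a₀ : G)⁻¹ := by
    show s * z₀G * s = _
    rw [hz₀G]
    calc s * (s * ((a₀ : G) * s * (a₀ : G)⁻¹) * s) * s
        = (s * s) * ((a₀ : G) * s * (a₀ : G)⁻¹) * (s * s) := by group
      _ = _ := by rw [hss, one_mul, mul_one]
  have hEC : ∀ z z' : H, z ∈ Subgroup.center H → z' ∈ Subgroup.center H → z ≠ 1 → z' ≠ 1 →
      ∃ x ∈ stabilizer G a ⊓ stabilizer G b, x * (z : G) * x⁻¹ = z' := by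
    intro z z' hz hz' h1 h1'
    obtain ⟨ι, κ, hι, -, hιadd, hι1, hact⟩ := exists_coords actC hcardC hcardE hfixC hF
      (v₀ := ⟨z, hz⟩) (fun h => h1 (congrArg Subtype.val h))
    obtain ⟨t, ht⟩ := hι.2 ⟨z', hz'⟩
    have ht0 : t ≠ 0 := by
      rintro rfl
      refine h1' ?_
      have h0 : ι 0 = 1 := by
        have e : ι 0 * ι 0 = ι 0 := by rw [← hιadd, add_zero]
        exact mul_left_cancel (e.trans (mul_one _).symm)
      exact congrArg Subtype.val (ht.symm.trans h0)
    refine ⟨κ (Units.mk0 t ht0), (κ _).2, ?_⟩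
    have h := hact (Units.mk0 t ht0) 1
    rw [hι1, Units.val_mk0, mul_one, ht] at h
    exact congrArg (fun w : Subgroup.center H => ((w : H) : G)) h
  have ha₀c : a₀ ∉ Subgroup.center H := fun hc =>
    fixed_not_central hH hZ hab hq8 hcardH hcardE hcardC hEC hsa hsb hss (hinv s hsa hsb)
      hc hz₀c hz₀1 hkey
  -- coordinates
  obtain ⟨ιQ, κ, hιQ, hκ, hιQadd, hιQ1, hactQ⟩ := exists_coords actQ
    (by
      have := Subgroup.card_eq_card_quotient_mul_card_subgroup (Subgroup.center H)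
      rw [hcardH, hcardC, pow_two] at this
      exact (Nat.eq_of_mul_eq_mul_right (by positivity) this).symm)
    hcardE hfixQ hF (v₀ := (a₀ : H ⧸ Subgroup.center H))
    (fun h => ha₀c ((QuotientGroup.eq_one_iff a₀).1 h))
  obtain ⟨ιC, κC, hιC, hκC, hιCadd, hιC1, hactC⟩ := exists_coords actC hcardC hcardE hfixC hF
    (v₀ := ⟨a₀ * a₀, hsqc a₀⟩) (fun h => ha₀c
      (((hinvc a₀).1 ⟨fun h1 => ha₀c (h1 ▸ one_mem _), congrArg Subtype.val h⟩).1))
  let κCe := MulEquiv.ofBijective κC hκC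
  obtain ⟨m, hm⟩ := MonoidHom.map_cyclic (κCe.symm.toMonoidHom.comp κ)
  obtain ⟨k, hklt, hkpow⟩ : ∃ k : ℕ, k < 2 ^ n - 1 ∧ ∀ t : Fˣ, κ t = κC (t ^ k) := by
    have hcu : Nat.card Fˣ = 2 ^ n - 1 := by rw [Nat.card_units, Nat.card_eq_fintype_card, hF]
    refine ⟨(m % (2 ^ n - 1 : ℕ)).toNat, ?_, fun t => ?_⟩
    · have := Int.emod_lt_of_pos m (show (0 : ℤ) < (2 ^ n - 1 : ℕ) by omega)
      omega
    · apply κCe.symm.injective
      rw [show κC (t ^ _) = κCe (t ^ _) from rfl, MulEquiv.symm_apply_apply]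
      refine (hm t).trans ?_
      have h1 : t ^ ((2 ^ n - 1 : ℕ) : ℤ) = 1 := by rw [zpow_natCast, ← hcu, pow_card_eq_one']
      conv_lhs => rw [← Int.emod_add_mul_ediv m (2 ^ n - 1 : ℕ), zpow_add, zpow_mul, h1, one_zpow, mul_one]
      rw [← zpow_natCast, Int.toNat_of_nonneg (Int.emod_nonneg _ (by omega))]
  have hpow_inj : Function.Injective fun t : Fˣ => t ^ k := fun t u h =>
    hκ.1 (by rw [hkpow, hkpow]; exact congrArg κC h)
  have hk0 : k ≠ 0 := by
    rintro rfl
    have h1 : Nat.card Fˣ ≤ 1 := Finite.card_le_one_iff_subsingleton.2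
      ⟨fun t u => hpow_inj (by simp)⟩
    rw [Nat.card_units, Nat.card_eq_fintype_card, hF] at h1
    omega
  -- the section through the orbit of the base element
  let e : F → H := fun α => if hα : α = 0 then 1 else cj (κ (Units.mk0 α hα)) a₀
  have he0 : e 0 = 1 := dif_pos rfl
  have heu : ∀ t : Fˣ, e (t : F) = cj (κ t) a₀ := fun t => by
    simp only [e, dif_neg t.ne_zero, Units.mk0_val]
  have hιQ0 : ιQ 0 = 1 := by
    have h := hιQadd 0 0
    rw [add_zero] at h
    exact mul_left_cancel (h.symm.trans (mul_one _).symm)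
  have hιC0 : ιC 0 = 1 := by
    have h := hιCadd 0 0
    rw [add_zero] at h
    exact mul_left_cancel (h.symm.trans (mul_one _).symm)
  have hmk : ∀ α, ((e α : H) : H ⧸ Subgroup.center H) = ιQ α := by
    intro α
    rcases eq_or_ne α 0 with rfl | hα
    · rw [he0, hιQ0]; rfl
    · obtain ⟨u, rfl⟩ : ∃ u : Fˣ, (u : F) = α := ⟨Units.mk0 α hα, rfl⟩
      have h := hactQ u 1
      rw [hιQ1, mul_one] at h
      rw [← h, heu]
      rfl
  have hcje : ∀ (t : Fˣ) α, cj (κ t) (e α) = e ((t : F) * α) := by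
    intro t α
    rcases eq_or_ne α 0 with rfl | hα
    · rw [mul_zero, he0, map_one]
    · obtain ⟨u, rfl⟩ : ∃ u : Fˣ, (u : F) = α := ⟨Units.mk0 α hα, rfl⟩
      rw [← Units.val_mul, heu, heu, map_mul κ, map_mul, MulAut.mul_apply]
  have he1 : e 1 = a₀ := by
    rw [show (1 : F) = ((1 : Fˣ) : F) from rfl, heu, map_one, map_one]; rfl
  let zz : F → H := fun β => (ιC β : H)
  have hzzc : ∀ β, zz β ∈ Subgroup.center H := fun β => (ιC β).2
  have hzzadd : ∀ x y, zz (x + y) = zz x * zz y := fun x y => congrArg Subtype.val (hιCadd x y)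
  have hzzinj : Function.Injective zz := Subtype.val_injective.comp hιC.1
  have hcjz : ∀ (t : Fˣ) β, cj (κ t) (zz β) = zz ((t : F) ^ k * β) := by
    intro t β
    have h := congrArg Subtype.val (hactC (t ^ k) β)
    rw [← hkpow, Units.val_pow_eq_pow_val] at h
    exact h
  have hsqe : ∀ α, e α * e α = zz (α ^ k) := by
    intro α
    rcases eq_or_ne α 0 with rfl | hα
    · rw [he0, mul_one, zero_pow hk0]
      exact (congrArg Subtype.val hιC0).symm
    · obtain ⟨u, rfl⟩ : ∃ u : Fˣ, (u : F) = α := ⟨Units.mk0 α hα, rfl⟩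
      rw [heu, ← map_mul, show a₀ * a₀ = zz 1 from
        (congrArg Subtype.val hιC1).symm, hcjz, mul_one]
  have hdec : ∀ α γ, ∃ β, e α * e γ = e (α + γ) * zz β := by
    intro α γ
    have h : (e (α + γ))⁻¹ * (e α * e γ) ∈ Subgroup.center H := by
      refine QuotientGroup.eq.1 ?_
      rw [QuotientGroup.mk_mul, hmk, hmk, hmk, hιQadd]
    obtain ⟨β, hβ⟩ := hιC.2 ⟨_, h⟩
    exact ⟨β, by rw [show zz β = (e (α + γ))⁻¹ * (e α * e γ) from congrArg Subtype.val hβ]; group⟩
  choose C hC using hdec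
  have h2F := CharTwo.two_eq_zero (R := F)
  have hK : ∀ α γ, e γ * e α = e α * e γ * zz (C α γ + C γ α) := by
    intro α γ
    rw [hC, hC, mul_assoc, ← hzzadd, add_comm γ α]
    congr 2
    linear_combination (-C α γ) * h2F
  have hR : ∀ α γ, C α γ + C γ α = (α + γ) ^ k + α ^ k + γ ^ k := by
    intro α γ
    have h1 : e α * e γ * (e α * e γ) = zz ((α + γ) ^ k) := by
      rw [hC]
      calc e (α + γ) * zz (C α γ) * (e (α + γ) * zz (C α γ))
          = e (α + γ) * (zz (C α γ) * e (α + γ)) * zz (C α γ) := by group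
        _ = e (α + γ) * e (α + γ) * (zz (C α γ) * zz (C α γ)) := by
            rw [← hcc (hzzc _) (e (α + γ))]; group
        _ = _ := by rw [hsqe, hz2 (hzzc _), mul_one]
    have h2 : e α * e γ * (e α * e γ) = zz (α ^ k + γ ^ k + (C α γ + C γ α)) := by
      calc e α * e γ * (e α * e γ) = e α * (e γ * e α) * e γ := by group
        _ = e α * e α * e γ * (zz (C α γ + C γ α) * e γ) := by rw [hK]; group
        _ = e α * e α * (e γ * e γ) * zz (C α γ + C γ α) := by
            rw [← hcc (hzzc _) (e γ)]; group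
        _ = _ := by rw [hsqe, hsqe, ← hzzadd, ← hzzadd]
    have h3 := hzzinj (h1.symm.trans h2)
    linear_combination (norm := sz_two) h3
  have hbi : ∀ x y z : F, C (x + y) z + C z (x + y) = C x z + C z x + (C y z + C z y) := by
    intro x y z
    apply hzzinj
    refine mul_left_cancel (a := e (x + y) * e z * zz (C x y)) ?_
    have hL : e z * (e x * e y) = e x * e y * e z * zz (C x z + C z x + (C y z + C z y)) := by
      calc e z * (e x * e y) = (e z * e x) * e y := by group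
        _ = e x * e z * (zz (C x z + C z x) * e y) := by rw [hK x z]; group
        _ = e x * (e z * e y) * zz (C x z + C z x) := by
            rw [← hcc (hzzc _) (e y)]; group
        _ = e x * e y * e z * (zz (C y z + C z y) * zz (C x z + C z x)) := by rw [hK y z]; group
        _ = _ := by rw [← hzzadd, add_comm (C y z + C z y)]
    rw [hC] at hL
    calc e (x + y) * e z * zz (C x y) * zz (C (x + y) z + C z (x + y))
        = e (x + y) * e z * (zz (C (x + y) z + C z (x + y)) * zz (C x y)) := by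
          rw [mul_assoc, ← hzzadd, ← hzzadd, add_comm (C x y)]
      _ = e z * e (x + y) * zz (C x y) := by rw [hK (x + y) z]; group
      _ = e (x + y) * (zz (C x y) * e z) * zz (C x z + C z x + (C y z + C z y)) := by
          rw [mul_assoc (e z), hL]; group
      _ = _ := by rw [← hcc (hzzc _) (e z)]; group
  have hqk : k < Fintype.card F := by omega
  have hsinj : Function.Injective fun x : F => x ^ k := by
    intro x y h
    simp only at h
    rcases eq_or_ne x 0 with rfl | hx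
    · rw [zero_pow hk0] at h
      exact ((pow_eq_zero_iff hk0).1 h.symm).symm
    · have hy : y ≠ 0 := by
        rintro rfl
        rw [zero_pow hk0] at h
        exact hx ((pow_eq_zero_iff hk0).1 h)
      exact congrArg Units.val (hpow_inj (a₁ := Units.mk0 x hx) (a₂ := Units.mk0 y hy)
        (Units.ext (by simpa using h)))
  have hw2 := weight_two (k := k) hk0 hqk (fun x y => by
    have h := hbi x y 1
    rw [hR, hR, hR] at h
    simpa only [one_pow] using h)
  obtain ⟨i, d, hd1, hdn, hk⟩ : ∃ i d, 1 ≤ d ∧ d < n ∧ k = 2 ^ i * (1 + 2 ^ d) := by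
    rcases hw2 with ⟨i, rfl⟩ | ⟨i, j, hij, hk⟩
    · exfalso
      have hall : ∀ α γ : F, e γ * e α = e α * e γ := fun α γ => by
        rw [hK, hR, add_pow_char_pow α γ 2 i,
          show α ^ 2 ^ i + γ ^ 2 ^ i + α ^ 2 ^ i + γ ^ 2 ^ i = (0 : F) by
            linear_combination (α ^ 2 ^ i + γ ^ 2 ^ i) * h2F]
        rw [show zz (0 : F) = 1 from congrArg Subtype.val hιC0, mul_one]
      obtain ⟨u, hu, u', hu', hne⟩ := hna
      refine hne (congrArg Subtype.val (?_ : (⟨u, hu⟩ : H) * ⟨u', hu'⟩ = ⟨u', hu'⟩ * ⟨u, hu⟩))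
      have hsplit : ∀ w : H, ∃ α, ∃ z ∈ Subgroup.center H, w = e α * z := fun w => by
        obtain ⟨α, hα⟩ := hιQ.2 (w : H ⧸ Subgroup.center H)
        exact ⟨α, (e α)⁻¹ * w, QuotientGroup.eq.1 (by rw [hmk, hα]), by group⟩
      obtain ⟨α, z, hz, h1⟩ := hsplit ⟨u, hu⟩
      obtain ⟨γ, z', hz', h2⟩ := hsplit ⟨u', hu'⟩
      rw [h1, h2]
      calc e α * z * (e γ * z') = e α * (z * e γ) * z' := by group
        _ = e α * e γ * (z * z') := by rw [← hcc hz (e γ)]; group
        _ = e γ * e α * (z' * z) := by rw [hall γ α, hcc hz' z]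
        _ = e γ * (e α * z') * z := by group
        _ = e γ * z' * (e α * z) := by rw [hcc hz' (e α)]; group
    · have hi : 2 ^ i < 2 ^ n := by have := Nat.two_pow_pos j; omega
      have hj : 2 ^ j < 2 ^ n := by have := Nat.two_pow_pos i; omega
      have hin := (Nat.pow_lt_pow_iff_right (a := 2) (by norm_num)).1 hi
      have hjn := (Nat.pow_lt_pow_iff_right (a := 2) (by norm_num)).1 hj
      rcases Nat.lt_or_ge i j with h | h
      · exact ⟨i, j - i, by omega, by omega, by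
          rw [hk, mul_add, mul_one, ← pow_add, Nat.add_sub_cancel' h.le]⟩
      · exact ⟨j, i - j, by omega, by omega, by
          rw [hk, mul_add, mul_one, ← pow_add, Nat.add_sub_cancel' h, add_comm]⟩
  -- new central coordinates
  have hfrob : Function.Bijective fun x : F => x ^ 2 ^ i :=
    Finite.injective_iff_bijective.1 (iterateFrobenius_inj F 2 i)
  let z' : F → H := fun β => zz (β ^ 2 ^ i)
  have hz'add : ∀ x y, z' (x + y) = z' x * z' y := fun x y => by
    show zz _ = zz _ * zz _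
    rw [← hzzadd, add_pow_char_pow x y 2 i]
  have hz'inj : Function.Injective z' := hzzinj.comp hfrob.1
  have hz'surj : ∀ z ∈ Subgroup.center H, ∃ β, z' β = z := fun z hz => by
    obtain ⟨β, hβ⟩ := hιC.2 ⟨z, hz⟩
    obtain ⟨γ, rfl⟩ := hfrob.2 β
    exact ⟨γ, congrArg Subtype.val hβ⟩
  have hpk : ∀ x : F, x ^ k = (x ^ (1 + 2 ^ d)) ^ 2 ^ i := fun x => by
    rw [hk, ← pow_mul, mul_comm]
  have hs_inj : Function.Injective fun x : F => x ^ (1 + 2 ^ d) := fun x y h => hsinj (by
    show x ^ k = y ^ k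
    rw [hpk, hpk]; exact congrArg (· ^ 2 ^ i) h)
  have hz'c : ∀ β, z' β ∈ Subgroup.center H := fun β => hzzc _
  have hcjz' : ∀ (t : Fˣ) β, cj (κ t) (z' β) = z' ((t : F) ^ (1 + 2 ^ d) * β) := fun t β => by
    show cj (κ t) (zz _) = zz _
    rw [hcjz, hpk, mul_pow]
  choose C₁ hC₁ using fun α γ => hfrob.2 (C α γ)
  simp only at hC₁
  have hC' : ∀ α γ, e α * e γ = e (α + γ) * z' (C₁ α γ) := fun α γ => by
    show _ = _ * zz _
    rw [hC₁]; exact hC α γ
  have hR' : ∀ α γ, C₁ α γ + C₁ γ α = α * γ ^ 2 ^ d + α ^ 2 ^ d * γ := fun α γ => by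
    apply hfrob.1
    show (C₁ α γ + C₁ γ α) ^ 2 ^ i = (α * γ ^ 2 ^ d + α ^ 2 ^ d * γ) ^ 2 ^ i
    rw [add_pow_char_pow (C₁ α γ) _ 2 i, hC₁, hC₁, hR, hpk, hpk, hpk,
      ← add_pow_char_pow _ _ 2 i, ← add_pow_char_pow _ _ 2 i]
    congr 1
    simp only [s_eq, th_add]
    linear_combination (norm := sz_two) (0 : F)
  have hC0 : ∀ γ, C₁ 0 γ = 0 := fun γ => by
    apply hz'inj
    have h := hC' 0 γ
    rw [he0, one_mul, zero_add] at h
    rw [show z' (C₁ 0 γ) = 1 from mul_left_cancel (h.symm.trans (mul_one _).symm)]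
    exact (show z' 0 = 1 by
      show zz _ = 1
      rw [zero_pow (Nat.two_pow_pos i).ne']; exact congrArg Subtype.val hιC0).symm
  have hCdiag : ∀ α, C₁ α α = α ^ (1 + 2 ^ d) := fun α => by
    apply hz'inj
    have h := hC' α α
    rw [CharTwo.add_self_eq_zero, he0, one_mul, hsqe] at h
    rw [← h]
    show zz _ = zz _
    rw [hpk]
  have hassoc : ∀ x y z, C₁ x y + C₁ (x + y) z = C₁ y z + C₁ x (y + z) := fun x y z => by
    apply hz'inj
    refine mul_left_cancel (a := e (x + y + z)) ?_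
    calc e (x + y + z) * z' (C₁ x y + C₁ (x + y) z)
        = e (x + y) * e z * z' (C₁ x y) := by rw [hC', mul_assoc, ← hz'add, add_comm (C₁ x y)]
      _ = e x * e y * e z := by
          rw [hC' x y, mul_assoc, mul_assoc, hcc (hzzc _) (e z)]
      _ = e x * (e (y + z) * z' (C₁ y z)) := by rw [mul_assoc, hC' y z]
      _ = e (x + (y + z)) * (z' (C₁ x (y + z)) * z' (C₁ y z)) := by
          rw [← mul_assoc, hC', mul_assoc]
      _ = _ := by rw [← hz'add, ← add_assoc, add_comm (C₁ x _)]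
  have hChom : ∀ (t : Fˣ) x y, C₁ ((t : F) * x) ((t : F) * y) = (t : F) ^ (1 + 2 ^ d) * C₁ x y := by
    intro t x y
    apply hz'inj
    refine mul_left_cancel (a := e ((t : F) * (x + y))) ?_
    rw [← hcje t (x + y), ← hcjz' t, ← map_mul, ← hC', map_mul, hcje, hcje, hcje, hC', mul_add]
  obtain ⟨ψ, hψ⟩ := cocycle_split (fun x y => C₁ x y + x * y ^ 2 ^ d)
    (fun x y => by linear_combination (norm := sz_two) hR' x y)
    (fun x => by rw [hCdiag, s_eq]; exact CharTwo.add_self_eq_zero _)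
    (fun y => by rw [hC0, zero_mul, add_zero])
    (fun x y z => by
      rw [th_add d y z]
      linear_combination hassoc x y z)
  let ψ' : F → F := fun α => ∑ t : Fˣ, ((t : F) ^ (1 + 2 ^ d))⁻¹ * ψ ((t : F) * α)
  have hψ'sc : ∀ (u : Fˣ) α, ψ' ((u : F) * α) = (u : F) ^ (1 + 2 ^ d) * ψ' α := fun u α => by
    simp only [ψ', Finset.mul_sum]
    refine (Fintype.sum_equiv (Equiv.mulRight u) _ _ fun t => ?_)
    simp only [Equiv.coe_mulRight, Units.val_mul, mul_pow]
    have := u.ne_zero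
    field_simp
  have hψ'D : ∀ x y, C₁ x y + x * y ^ 2 ^ d = ψ' (x + y) + ψ' x + ψ' y := fun x y => by
    simp only [ψ', ← Finset.sum_add_distrib]
    rw [Finset.sum_congr rfl (g := fun _ => C₁ x y + x * y ^ 2 ^ d) fun t _ => ?_]
    · rw [Finset.sum_const, Finset.card_univ, Fintype.card_units, hF, nsmul_eq_mul]
      rw [Nat.cast_sub (Nat.one_le_two_pow), Nat.cast_one, ← hF, FiniteField.cast_card_eq_zero]
      linear_combination (norm := sz_two) (0 : F)
    · rw [← mul_add, ← mul_add, mul_add (t : F) x y, ← hψ, hChom, mul_pow]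
      have := t.ne_zero
      rw [s_eq]
      field_simp
  set c := ψ' 1 with hc
  have hψ'eq : ∀ α, ψ' α = c * α ^ (1 + 2 ^ d) := fun α => by
    rcases eq_or_ne α 0 with rfl | hα
    · rw [zero_pow (by simp), mul_zero]
      have h := hψ'D 0 0
      simp [hC0, CharTwo.add_self_eq_zero] at h
      exact h.symm
    · have h := hψ'sc (Units.mk0 α hα) 1
      rw [Units.val_mk0, mul_one] at h
      rw [h, mul_comm]
  obtain ⟨ζ, hζ⟩ := hz'surj z₀ hz₀c
  let PP : F × F → H := fun v => e v.1 * z' (v.2 + c * v.1 ^ (1 + 2 ^ d))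
  have hPmul : ∀ u v, PP u * PP v = PP (mulP d u v) := fun u v => by
    show e u.1 * z' _ * (e v.1 * z' _) = e (u.1 + v.1) * z' _
    calc e u.1 * z' (u.2 + c * u.1 ^ (1 + 2 ^ d)) * (e v.1 * z' (v.2 + c * v.1 ^ (1 + 2 ^ d)))
        = e u.1 * (z' (u.2 + c * u.1 ^ (1 + 2 ^ d)) * e v.1) * z' (v.2 + c * v.1 ^ (1 + 2 ^ d)) := by
          group
      _ = e u.1 * e v.1 * (z' (u.2 + c * u.1 ^ (1 + 2 ^ d)) * z' (v.2 + c * v.1 ^ (1 + 2 ^ d))) := by
          rw [← hcc (hz'c _) (e v.1)]; group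
      _ = _ := by
          rw [hC', mul_assoc, ← hz'add, ← hz'add]
          congr 2
          have h := hψ'D u.1 v.1
          rw [hψ'eq, hψ'eq, hψ'eq] at h
          simp only [mulP]
          linear_combination (norm := sz_two) h
  have hPcj : ∀ (t : Fˣ) v, cj (κ t) (PP v) = PP (scl d (t : F) v) := fun t v => by
    show cj (κ t) (e v.1 * z' _) = _
    rw [map_mul, hcje, hcjz']
    simp only [PP, scl, mul_pow]
    congr 2
    ring
  have hPbij : Function.Bijective PP := by
    constructor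
    · rintro ⟨α, β⟩ ⟨α', β'⟩ h
      have h1 : α = α' := by
        apply hιQ.1
        have h' := congrArg (QuotientGroup.mk (s := Subgroup.center H)) h
        simp only [PP, QuotientGroup.mk_mul, hmk] at h'
        rwa [(QuotientGroup.eq_one_iff _).2 (hzzc _), (QuotientGroup.eq_one_iff _).2 (hzzc _),
          mul_one, mul_one] at h'
      subst h1
      exact Prod.ext rfl (add_right_cancel (hz'inj (mul_left_cancel h)))
    · intro w
      obtain ⟨α, hα⟩ := hιQ.2 (w : H ⧸ Subgroup.center H)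
      obtain ⟨β, hβ⟩ := hz'surj ((e α)⁻¹ * w) (QuotientGroup.eq.1 (by rw [hmk, hα]))
      refine ⟨(α, β + c * α ^ (1 + 2 ^ d)), ?_⟩
      show e α * z' (β + c * α ^ (1 + 2 ^ d) + c * α ^ (1 + 2 ^ d)) = w
      rw [add_assoc, CharTwo.add_self_eq_zero, add_zero, hβ]
      group
  have hz'1 : z' 1 = a₀ * a₀ := by
    show zz _ = _
    rw [one_pow]; exact congrArg Subtype.val hιC1
  have hz'0 : z' 0 = 1 := by
    show zz _ = _
    rw [zero_pow (Nat.two_pow_pos i).ne']; exact congrArg Subtype.val hιC0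
  refine ⟨d, c, hd1, hdn, ⟨{
    a := a
    b := b
    P := fun v => (PP v : G)
    h := fun t => (κ t : G)
    w := s
    ζ := ζ
    charTwo := hchar
    s_inj := hs_inj
    zeta_ne := fun h => hz₀1 (by rw [← hζ, h, hz'0])
    hab := hab
    P_mul := fun u v => congrArg Subtype.val (hPmul u v)
    h_P := fun t v => by
      have h : ((cj (κ t) (PP v) : H) : G) = (PP (scl d (t : F) v) : G) := congrArg Subtype.val (hPcj t v)
      rw [← h]
      show _ = (κ t : G) * (PP v : G) * (κ t : G)⁻¹ * (κ t : G)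
      group
    P_a := fun v => hH.le (PP v).2
    h_a := fun t => (mem_two.1 (κ t).2).1
    h_b := fun t => (mem_two.1 (κ t).2).2
    reg_inj := fun u v h => hPbij.1 (Subtype.ext (inv_mul_eq_one.1 (hH.eq_one_of_fix
      (mul_mem (inv_mem (PP v).2) (PP u).2) hab.symm
      (by rw [mul_smul, inv_smul_eq_iff]; exact h))).symm)
    reg_surj := fun x hx => by
      obtain ⟨w, hw, -⟩ := hH.regular hZ hab.symm hx
      obtain ⟨v, rfl⟩ := hPbij.2 w
      exact ⟨v, hw⟩
    w_a := hsa
    w_b := hsb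
    w_sq := hss
    w_h := fun t => by
      rw [map_inv, Subgroup.coe_inv, ← hinv s hsa hsb _ (κ t).2]
      group
    key := by
      have e1 : PP (0, ζ) = z₀ := by
        show e 0 * z' _ = _
        rw [he0, one_mul, zero_pow (by simp), mul_zero, add_zero, hζ]
      have e2 : PP (1, c) = a₀ := by
        show e 1 * z' _ = _
        rw [one_pow, mul_one, CharTwo.add_self_eq_zero, hz'0, mul_one, he1]
      have e3 : PP (1, c + 1) = a₀⁻¹ := by
        show e 1 * z' _ = _
        rw [one_pow, mul_one, show c + 1 + c = 1 by linear_combination c * h2F, hz'1, he1]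
        refine eq_inv_of_mul_eq_one_left ?_
        rw [show a₀ * (a₀ * a₀) * a₀ = a₀ * a₀ * (a₀ * a₀) by group]
        exact hz2 (hsqc a₀)
      rw [e1, e2, e3, Subgroup.coe_inv]
      exact hkey
    gen := fun g hg => by
      obtain ⟨u, hu, x, hx, rfl⟩ := hH.decomp hZ hab hg
      obtain ⟨v, hv⟩ := hPbij.2 ⟨u, hu⟩
      obtain ⟨t, ht⟩ := hκ.2 ⟨x, hx⟩
      exact ⟨v, t, by rw [hv, ht]⟩
    faithful := hZ.1 }⟩⟩

end

end Cfsg.Agent.H70.SzUnique
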