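import Mathlib

/-!
The equations satisfied by the involution of a simple Zassenhaus group with non-abelian two-group
kernel in coordinates `(α,β)(γ,δ) = (α+γ, β+δ+α γ^θ)`, `θ = 2^d`, and the fact that they determine
the parameters and the permutation.
-/

set_option autoImplicit false

namespace Cfsg.Agent.H70.SzUnique

variable {F : Type*} [Field F]

/-- Multiplication on `F × F` attached to `θ = 2^d`. -/
def mulP (d : ℕ) (u v : F × F) : F × F := (u.1 + v.1, u.2 + v.2 + u.1 * v.1 ^ 2 ^ d)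

/-- Scaling by the torus. -/
def scl (d : ℕ) (t : F) (v : F × F) : F × F := (t * v.1, t ^ (1 + 2 ^ d) * v.2)

/-- The equations of the permutation `f` induced by an involution swapping the two base points. -/
structure Law (F : Type*) [Field F] (d : ℕ) (c ζ : F) (f : F × F → F × F) : Prop where
  charTwo : CharP F 2
  s_inj : Function.Injective fun x : F => x ^ (1 + 2 ^ d)
  zeta_ne : ζ ≠ 0
  ne_zero : ∀ v, v ≠ 0 → f v ≠ 0
  invol : ∀ v, v ≠ 0 → f (f v) = v
  scale : ∀ t v, t ≠ 0 → v ≠ 0 → f (scl d t v) = scl d t⁻¹ (f v)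
  f_z : f (0, ζ) = (1, c)
  f_einv : f (1, c + 1) = (1, c + 1)
  rec' : ∀ v, v ≠ 0 → v ≠ (0, ζ) →
    mulP d (1, c + 1) (f v) ≠ 0 ∧ f (mulP d (0, ζ) v) = mulP d (1, c) (f (mulP d (1, c + 1) (f v)))

theorem ofNat_even [CharP F 2] (n : ℕ) [n.AtLeastTwo] (h : n % 2 = 0) :
    (ofNat(n) : F) = 0 := by
  show ((n : ℕ) : F) = 0
  exact (CharP.cast_eq_zero_iff F 2 n).2 (Nat.dvd_of_mod_eq_zero h)

theorem ofNat_odd [CharP F 2] (n : ℕ) [n.AtLeastTwo] (h : n % 2 = 1) :
    (ofNat(n) : F) = 1 := by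
  show ((n : ℕ) : F) = 1
  rw [← Nat.mod_add_div n 2, h, Nat.cast_add, Nat.cast_one, Nat.cast_mul, Nat.cast_ofNat,
    CharTwo.two_eq_zero, zero_mul, add_zero]

/-- Closing tactic for polynomial identities in characteristic two. -/
macro "sz_two" : tactic => `(tactic| (
  ring_nf
  <;> simp (disch := decide) only [CharTwo.sub_eq_add, CharTwo.neg_eq, Cfsg.Agent.H70.SzUnique.ofNat_even,
    Cfsg.Agent.H70.SzUnique.ofNat_odd, mul_zero, zero_mul, add_zero, zero_add, mul_one]))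

theorem th_add [CharP F 2] (d : ℕ) (x y : F) : (x + y) ^ 2 ^ d = x ^ 2 ^ d + y ^ 2 ^ d :=
  add_pow_char_pow x y 2 d

theorem s_eq (d : ℕ) (x : F) : x ^ (1 + 2 ^ d) = x * x ^ 2 ^ d := by rw [pow_add, pow_one]

theorem one_add_s [CharP F 2] (d : ℕ) (x : F) :
    (1 + x) ^ (1 + 2 ^ d) = 1 + x + x ^ 2 ^ d + x * x ^ 2 ^ d := by
  rw [s_eq, th_add, one_pow]; ring

theorem add_eq_zero' [CharP F 2] {x y : F} : x + y = 0 ↔ x = y := CharTwo.add_eq_zero

theorem mulP_assoc [CharP F 2] (d : ℕ) (u v w : F × F) :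
    mulP d (mulP d u v) w = mulP d u (mulP d v w) := by
  refine Prod.ext (by simp [mulP]; ring) ?_
  simp only [mulP, th_add]
  ring

theorem zero_mulP (d : ℕ) (v : F × F) : mulP d 0 v = v := by
  refine Prod.ext (by simp [mulP]) ?_
  simp [mulP]

theorem e_einv [CharP F 2] (d : ℕ) (c : F) : mulP d (1, c + 1) (1, c) = (0 : F × F) := by
  refine Prod.ext (by simp [mulP, CharTwo.add_self_eq_zero]) ?_
  simp only [mulP, one_pow, one_mul, Prod.snd_zero]
  linear_combination (norm := ring_nf) (c + 1) * CharTwo.two_eq_zero (R := F)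

namespace Law

variable {d : ℕ} {c ζ : F} {f : F × F → F × F} (L : Law F d c ζ f)

theorem s_bij [Finite F] (L : Law F d c ζ f) : Function.Bijective fun x : F => x ^ (1 + 2 ^ d) :=
  Finite.injective_iff_bijective.1 L.s_inj

theorem exists_root [Finite F] (L : Law F d c ζ f) (z : F) : ∃ x : F, x ^ (1 + 2 ^ d) = z :=
  L.s_bij.2 z

theorem s_ne {x : F} (hx : x ≠ 0) : x ^ (1 + 2 ^ d) ≠ 0 := pow_ne_zero _ hx

include L in
theorem f_e {x : F} (hx : x ≠ 0) :
    f (x, c * x ^ (1 + 2 ^ d)) = (0, ζ * (x ^ (1 + 2 ^ d))⁻¹) := by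
  have hz : ((0, ζ) : F × F) ≠ 0 := fun h => L.zeta_ne (congrArg Prod.snd h)
  have h1 : ((1, c) : F × F) ≠ 0 := fun h => one_ne_zero (congrArg Prod.fst h)
  have h2 : f (1, c) = (0, ζ) := by rw [← L.f_z, L.invol _ hz]
  have := L.scale x (1, c) hx h1
  rw [h2] at this
  simpa [scl, mul_comm, inv_pow] using this

include L in
theorem zeta_eq_one [Finite F] : ζ = 1 := by
  have := L.charTwo
  obtain ⟨x, hx⟩ := L.exists_root ζ
  have hx0 : x ≠ 0 := by
    rintro rfl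
    exact L.zeta_ne (hx.symm.trans (zero_pow (by simp)))
  set v : F × F := (x, c * x ^ (1 + 2 ^ d)) with hv
  have hv0 : v ≠ 0 := fun h => hx0 (congrArg Prod.fst h)
  have hvz : v ≠ (0, ζ) := fun h => hx0 (congrArg Prod.fst h)
  have hu : mulP d (1, c + 1) (f v) = (1, c) := by
    rw [hv, L.f_e hx0, hx, mul_inv_cancel₀ L.zeta_ne]
    refine Prod.ext (by simp [mulP]) ?_
    simp only [mulP, zero_pow (Nat.two_pow_pos d).ne', mul_zero, add_zero]
    linear_combination (norm := ring_nf) CharTwo.two_eq_zero (R := F)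
  have h := (L.rec' v hv0 hvz).2
  have hf1 : f (1, c) = (0, ζ) := by
    rw [← L.f_z, L.invol _ fun h => L.zeta_ne (congrArg Prod.snd h)]
  rw [hu, hf1] at h
  have hl : mulP d (0, ζ) v = scl d x (1, c + 1) := by
    refine Prod.ext (by simp [mulP, scl, hv]) ?_
    simp only [mulP, scl, hv, zero_mul, add_zero, hx]
    ring
  rw [hl, L.scale x _ hx0 (fun h => one_ne_zero (congrArg Prod.fst h)), L.f_einv] at h
  have h1 := congrArg Prod.fst h
  simp [scl, mulP] at h1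
  rw [h1, one_pow] at hx
  exact hx.symm

end Law

/-- The element `e⁻¹ e_x` divided out. -/
def beta (d : ℕ) (c x : F) : F :=
  (c + 1 + c * x ^ (1 + 2 ^ d) + x ^ 2 ^ d) / (1 + x) ^ (1 + 2 ^ d)

theorem vx_eq [CharP F 2] (d : ℕ) (c : F) {x : F} (hx : 1 + x ≠ 0) :
    mulP d (1, c + 1) (x, c * x ^ (1 + 2 ^ d)) = scl d (1 + x) (1, beta d c x) := by
  refine Prod.ext (by simp [mulP, scl]) ?_
  simp only [mulP, scl, one_mul, beta]
  rw [mul_div_cancel₀ _ (pow_ne_zero _ hx)]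

theorem beta_inv_add [CharP F 2] (d : ℕ) (c : F) {a : F} (ha : a ≠ 0) (h1 : 1 + a ≠ 0) :
    beta d c a⁻¹ + 1 = beta d c a ∧
      beta d c a⁻¹ + c = (a * a ^ 2 ^ d + (c + 1) * a + c * a ^ 2 ^ d) / (1 + a) ^ (1 + 2 ^ d) := by
  have h2 := CharTwo.two_eq_zero (R := F)
  have ht : a ^ 2 ^ d ≠ 0 := pow_ne_zero _ ha
  have hb : (1 + a) ^ (1 + 2 ^ d) ≠ 0 := pow_ne_zero _ h1
  have hi : 1 + a⁻¹ ≠ 0 := by
    intro h
    apply h1
    field_simp at h
    linear_combination h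
  have hib : (1 + a⁻¹) ^ (1 + 2 ^ d) ≠ 0 := pow_ne_zero _ hi
  have e1 := one_add_s d a
  have e2 := one_add_s d a⁻¹
  simp only [inv_pow] at e2
  constructor
  · rw [beta, beta, div_add_one hib, div_eq_div_iff hib hb, s_eq d a, s_eq d a⁻¹, inv_pow, e1, e2]
    field_simp
    grobner
  · rw [beta, div_add' _ _ _ hib, div_eq_div_iff hib hb, s_eq d a⁻¹, inv_pow, e1, e2]
    field_simp
    grobner

namespace Law

variable [Finite F] {d : ℕ} {c : F} {f : F × F → F × F}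

omit [Finite F] in
theorem f_vx (L : Law F d c 1 f) {x y : F} (hx : x ≠ 0) (hx1 : x ≠ 1) (hy : y ≠ 0)
    (hxy : (y ^ (1 + 2 ^ d))⁻¹ = 1 + (x ^ (1 + 2 ^ d))⁻¹) :
    1 + x ≠ 0 ∧ 1 + y ≠ 0 ∧
      f (1, beta d c x) = scl d ((1 + x) * (1 + y)) (1, beta d c y) := by
  have := L.charTwo
  have hx' : 1 + x ≠ 0 := fun h => hx1 (add_eq_zero'.1 h).symm
  have hy' : 1 + y ≠ 0 := by
    intro h
    rw [← add_eq_zero'.1 h, one_pow, inv_one] at hxy
    exact s_ne (d := d) hx (inv_eq_zero.1 (by linear_combination -hxy))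
  refine ⟨hx', hy', ?_⟩
  set v : F × F := (0, (x ^ (1 + 2 ^ d))⁻¹) with hv
  have hv0 : v ≠ 0 := fun h => s_ne (d := d) hx (inv_eq_zero.1 (congrArg Prod.snd h))
  have hvz : v ≠ (0, 1) := fun h => hx1 (L.s_inj (by
    show x ^ (1 + 2 ^ d) = 1 ^ (1 + 2 ^ d)
    rw [one_pow]; exact inv_eq_one.1 (congrArg Prod.snd h)))
  have hfv : f v = (x, c * x ^ (1 + 2 ^ d)) := by
    have := L.f_e hx
    rw [one_mul] at this
    rw [hv, ← this, L.invol _ fun h => hx (congrArg Prod.fst h)]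
  obtain ⟨hu, h⟩ := L.rec' v hv0 hvz
  rw [hfv] at h
  have hl : mulP d (0, 1) v = (0, (y ^ (1 + 2 ^ d))⁻¹) := by
    refine Prod.ext (by simp [mulP, hv]) ?_
    simp [mulP, hv, hxy]
  have hfl : f (0, (y ^ (1 + 2 ^ d))⁻¹) = (y, c * y ^ (1 + 2 ^ d)) := by
    have := L.f_e hy
    rw [one_mul] at this
    rw [← this, L.invol _ fun h => hy (congrArg Prod.fst h)]
  rw [hl, hfl, vx_eq d c hx'] at h
  have h' := congrArg (mulP d (1, c + 1)) h
  rw [← mulP_assoc, e_einv, zero_mulP, vx_eq d c hy'] at h'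
  have h1b : ((1, beta d c x) : F × F) ≠ 0 := fun h => one_ne_zero (congrArg Prod.fst h)
  rw [L.scale (1 + x) _ hx' h1b] at h'
  have := congrArg (scl d (1 + x)) h'
  simp only [scl, ← mul_assoc, ← mul_pow, mul_inv_cancel₀ hx', one_pow, one_mul, mul_one] at this
  refine Prod.ext ?_ ?_
  · simpa [scl] using (congrArg Prod.fst this).symm
  · simpa [scl] using (congrArg Prod.snd this).symm

/-- The basic identity. -/
theorem main_eq (L : Law F d c 1 f) {a b : F} (ha : a ≠ 0) (ha1 : a ≠ 1)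
    (hb : b ^ (1 + 2 ^ d) = 1 + a * a ^ 2 ^ d) :
    let A := a ^ 2 ^ d
    let M := (c + 1) * a + c * A + a * A
    b * (M + (a * A) ^ 2 * (1 + A)) =
      M * ((c + 1) * (a * A) + 1) + a * A * ((c + (1 + A)) * (1 + a * A) +
        (1 + a) * (1 + A) * (c + 1 + a * A)) := by
  intro A M
  have := L.charTwo
  have hA : A ≠ 0 := pow_ne_zero _ ha
  have h2 := CharTwo.two_eq_zero (R := F)
  have hb0 : b ≠ 0 := by
    rintro rfl
    rw [zero_pow (by simp), ← s_eq] at hb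
    exact ha1 (L.s_inj (show a ^ (1 + 2 ^ d) = 1 ^ (1 + 2 ^ d) by
      rw [one_pow]; exact (add_eq_zero'.1 hb.symm).symm))
  have hai : a⁻¹ ≠ 1 := fun h => ha1 (inv_eq_one.1 h)
  have hS : a ^ (1 + 2 ^ d) = a * A := s_eq d a
  obtain ⟨h1a, h1b, hF1⟩ := L.f_vx (inv_ne_zero ha) hai (inv_ne_zero hb0) (by
    rw [inv_pow, inv_inv, inv_pow, inv_inv, hb, hS])
  obtain ⟨h1a', h1b', hF2⟩ := L.f_vx (y := a / b) ha ha1 (div_ne_zero ha hb0) (by
    rw [div_pow, inv_div, hb, hS]; field_simp; ring)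
  obtain ⟨hadd, hL⟩ := beta_inv_add d c ha h1a'
  set β := beta d c a⁻¹ with hβ
  have hLne : β + c ≠ 0 := by
    intro h
    have hfc : f (1, c) = (0, 1) := by
      rw [← L.f_z, L.invol _ fun h => one_ne_zero (congrArg Prod.snd h)]
    rw [add_eq_zero'.1 h, hfc] at hF1
    have := congrArg Prod.fst hF1
    simp [scl] at this
    tauto
  obtain ⟨r, hr⟩ := L.exists_root (β + c)
  have hr0 : r ≠ 0 := by
    rintro rfl
    exact hLne (hr.symm.trans (zero_pow (by simp)))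
  set z := r⁻¹ with hz
  have hz0 : z ≠ 0 := inv_ne_zero hr0
  set v : F × F := (z, c * z ^ (1 + 2 ^ d)) with hv
  have hv0 : v ≠ 0 := fun h => hz0 (congrArg Prod.fst h)
  have hvz : v ≠ (0, 1) := fun h => hz0 (congrArg Prod.fst h)
  have hu : mulP d (1, c + 1) (f v) = (1, beta d c a) := by
    rw [hv, L.f_e hz0, one_mul, hz, inv_pow, inv_inv, hr, ← hadd]
    refine Prod.ext (by simp [mulP]) ?_
    simp only [mulP, zero_pow (Nat.two_pow_pos d).ne', mul_zero, add_zero]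
    linear_combination c * h2
  have h := (L.rec' v hv0 hvz).2
  rw [hu] at h
  have hl : mulP d (0, 1) v = scl d z (1, β) := by
    have hrz : z ^ (1 + 2 ^ d) * (β + c) = 1 := by
      rw [← hr, hz, inv_pow, inv_mul_cancel₀ (pow_ne_zero _ hr0)]
    refine Prod.ext (by simp [mulP, scl, hv]) ?_
    simp only [mulP, scl, hv, zero_mul, add_zero]
    linear_combination (c * z ^ (1 + 2 ^ d)) * h2 - hrz
  rw [hl, L.scale z _ hz0 (fun h => one_ne_zero (congrArg Prod.fst h)), hF1, hF2] at h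
  have hh := congrArg Prod.snd h
  simp only [scl, mulP, hz, inv_inv, hr, one_mul, hL, mul_one, beta, mul_pow, th_add, one_pow,
    s_eq d (1 + a⁻¹), s_eq d (1 + b⁻¹), s_eq d (1 + a / b), inv_pow, div_pow] at hh
  simp only [s_eq d a, s_eq d b] at hh
  rw [s_eq] at hb
  have hb' : b ^ 2 ^ d ≠ 0 := pow_ne_zero _ hb0
  have k1 : (1 : F) + A ≠ 0 := by
    intro h
    apply h1a'
    have h3 : a ^ 2 ^ d = (1 : F) ^ 2 ^ d := by rw [one_pow]; exact (add_eq_zero'.1 h).symm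
    rw [iterateFrobenius_inj F 2 d h3]
    linear_combination h2
  have k2 : (1 : F) + b⁻¹ ≠ 0 := h1b
  have k3 : (1 : F) + a / b ≠ 0 := h1b'
  have k4 : (1 : F) + (b ^ 2 ^ d)⁻¹ ≠ 0 := by
    have := pow_ne_zero (2 ^ d) k2
    rwa [th_add, one_pow, inv_pow] at this
  have k5 : (1 : F) + a ^ 2 ^ d / b ^ 2 ^ d ≠ 0 := by
    have := pow_ne_zero (2 ^ d) k3
    rwa [th_add, one_pow, div_pow] at this
  rw [add_comm] at k1
  have j2 : b + 1 ≠ 0 := by
    intro h; apply k2; field_simp; linear_combination h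
  have j3 : b + a ≠ 0 := by
    intro h; apply k3; field_simp; linear_combination h
  have j4 : b ^ 2 ^ d + 1 ≠ 0 := by
    intro h; apply k4; field_simp; linear_combination h
  have j5 : b ^ 2 ^ d + a ^ 2 ^ d ≠ 0 := by
    intro h; apply k5; field_simp; linear_combination h
  field_simp at hh
  rw [one_add_s] at hh
  field_simp at hh
  have hT : (1 + a) * (1 + A) ≠ 0 := mul_ne_zero h1a' (by rwa [add_comm])
  apply mul_left_cancel₀ hT
  show (1 + a) * (1 + a ^ 2 ^ d) * _ = (1 + a) * (1 + a ^ 2 ^ d) * _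
  simp only [A, M]
  generalize a ^ 2 ^ d = X at *
  generalize b ^ 2 ^ d = Y at *
  linear_combination (norm := sz_two) hh -
    ((a * (X + (c + 1)) + X * c) * (a + 1) * (X + 1) * (c + 1) - a * X * (1 + a + X + a * X) *
      (c + (1 + a + X + a * X) * (c + 1) + (1 + X))) * hb

end Law

end Cfsg.Agent.H70.SzUnique
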