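import Cfsg.Agent.H70.SzUnique.Law

/-!
The equations force the parameters of the Suzuki groups, and determine the permutation.
-/

set_option autoImplicit false

namespace Cfsg.Agent.H70.SzUnique

open Polynomial

/-- A sum of monomials of exponent below the order of the field which vanishes everywhere
has zero coefficients. -/
theorem coeff_zero_of_forall {F : Type*} [Field F] [Fintype F] {ι : Type*} (s : Finset ι)
    (coef : ι → F) (e : ι → ℕ) (he : ∀ i ∈ s, e i < Fintype.card F)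
    (h : ∀ x : F, ∑ i ∈ s, coef i * x ^ e i = 0) (m : ℕ) :
    ∑ i ∈ s with e i = m, coef i = 0 := by
  classical
  set P : F[X] := ∑ i ∈ s, C (coef i) * X ^ e i with hP
  have h0 : P = 0 := by
    refine Polynomial.eq_zero_of_natDegree_lt_card_of_eval_eq_zero P Function.injective_id
      (fun x => ?_) ?_
    · simpa [hP, eval_finsetSum] using h x
    · refine lt_of_le_of_lt (natDegree_sum_le_of_forall_le (n := Fintype.card F - 1) s _
        fun i hi => (natDegree_C_mul_X_pow_le _ _).trans (by have := he i hi; omega)) ?_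
      have := Fintype.card_pos (α := F)
      omega
  have h1 : P.coeff m = 0 := by rw [h0, coeff_zero]
  rw [hP, finsetSum_coeff] at h1
  simp only [coeff_C_mul, coeff_X_pow, mul_ite, mul_one, mul_zero] at h1
  rw [Finset.sum_filter]
  simpa [eq_comm] using h1

variable {F : Type*} [Field F] [Fintype F] {d n : ℕ} {c : F} {f : F × F → F × F}

/-- Frobenius powers only depend on the exponent modulo the degree. -/
theorem pow_two_pow_mod (hq : Fintype.card F = 2 ^ n) (x : F) (j : ℕ) :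
    x ^ 2 ^ j = x ^ 2 ^ (j % n) := by
  conv_lhs => rw [← Nat.div_add_mod j n, pow_add, pow_mul x, pow_mul 2 n, ← hq, FiniteField.pow_card_pow]

theorem two_pow_add_eq {x y d : ℕ} (hx : 1 ≤ x) (hd : 1 ≤ d) (h : 2 ^ x + 2 ^ y = 1 + 2 ^ d) :
    x = d := by
  rcases Nat.eq_zero_or_pos y with rfl | hy
  · refine Nat.pow_right_injective le_rfl (show 2 ^ x = 2 ^ d from ?_)
    rw [pow_zero] at h
    omega
  · have h1 : 2 ∣ 2 ^ x + 2 ^ y := dvd_add (dvd_pow_self 2 (by omega)) (dvd_pow_self 2 (by omega))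
    have h2 : (2 : ℕ) ∣ 2 ^ d := dvd_pow_self 2 (by omega)
    omega

namespace Law

theorem c_eq (L : Law F d c 1 f) {a : F} (ha : a ≠ 0) (ha1 : a ≠ 1) :
    c * (c + 1) * ((a + a ^ 2 ^ d) * (a ^ 2 ^ d * (1 + a ^ 2 ^ d) * (1 + a) ^ 2 +
      c * (a + a ^ 2 ^ d) * (1 + a * (a ^ 2 ^ d) ^ 2))) = 0 := by
  have := L.charTwo
  obtain ⟨b, hb⟩ := L.exists_root (1 + a * a ^ 2 ^ d)
  have hA : a ^ 2 ^ d ≠ 0 := pow_ne_zero _ ha
  have e1 := L.main_eq ha ha1 hb
  have e2 := L.main_eq (a := a⁻¹) (b := b / a) (inv_ne_zero ha) (fun h => ha1 (inv_eq_one.1 h)) (by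
    rw [div_pow, hb, s_eq d a, inv_pow]
    field_simp
    ring)
  simp only [inv_pow] at e1 e2
  generalize a ^ 2 ^ d = Y at *
  have e2' : b * (a * Y * Y * ((c + 1) * Y + c * a + 1) + (1 + Y)) =
      ((c + 1) * Y + c * a + 1) * ((c + 1) + a * Y) * (a * Y) +
        a * (1 + a * Y) * ((c + 1) * Y + 1) + (1 + a) * (1 + Y) * ((c + 1) * (a * Y) + 1) := by
    field_simp at e2
    linear_combination (norm := sz_two) e2
  refine mul_left_cancel₀ (a := a * Y) (mul_ne_zero ha hA) ?_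
  linear_combination (norm := sz_two)
    (((c + 1) * a + c * Y + a * Y) + (a * Y) ^ 2 * (1 + Y)) * e2' +
    (a * Y * Y * ((c + 1) * Y + c * a + 1) + (1 + Y)) * e1

theorem c_cases (hq : Fintype.card F = 2 ^ n) (hd : 1 ≤ d) (hdn : d + 2 ≤ n) (L : Law F d c 1 f) :
    c = 0 ∨ c = 1 := by
  classical
  have := L.charTwo
  by_contra hc
  push Not at hc
  have hc1 : c + 1 ≠ 0 := fun h => hc.2 (add_eq_zero'.1 h)
  set T := fun x : F => (x + x ^ 2 ^ d) * (x ^ 2 ^ d * (1 + x ^ 2 ^ d) * (1 + x) ^ 2 +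
      c * (x + x ^ 2 ^ d) * (1 + x * (x ^ 2 ^ d) ^ 2)) with hT
  have hT0 : ∀ x, T x = 0 := by
    intro x
    rcases eq_or_ne x 0 with rfl | hx
    · simp [hT]
    rcases eq_or_ne x 1 with rfl | hx1
    · simp [hT, CharTwo.add_self_eq_zero]
    exact (mul_eq_zero.1 (L.c_eq hx hx1)).resolve_left (mul_ne_zero hc.1 hc1)
  let t := 2 ^ d
  let e : Fin 9 → ℕ := ![3 * t, 1 + t, 1 + 2 * t, 2 * t, 2, 3, 2 + 2 * t, 2 * t, 2 ^ ((d + 2) % n)]
  let coef : Fin 9 → F := ![1, 1, c + 1, 1, c, c, c, c, c]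
  have hb : 4 * t ≤ 2 ^ n := by
    calc 4 * t = 2 ^ (d + 2) := by rw [pow_add]; ring
      _ ≤ 2 ^ n := Nat.pow_le_pow_right (by norm_num) hdn
  have ht : 2 ≤ t := by
    calc 2 = 2 ^ 1 := rfl
      _ ≤ t := Nat.pow_le_pow_right (by norm_num) hd
  have hm : 2 ^ ((d + 2) % n) < 2 ^ n :=
    Nat.pow_lt_pow_right (by norm_num) (Nat.mod_lt _ (by omega))
  have h := coeff_zero_of_forall (F := F) Finset.univ coef e (by
    intro i _
    rw [hq]
    fin_cases i <;> simp [e] <;> omega) (fun x => by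
    have h1 := hT0 x
    have h2 := hT0 (x + 1)
    simp only [hT, th_add, one_pow] at h1 h2
    simp only [Fin.sum_univ_succ, Fin.sum_univ_zero, coef, e, Matrix.cons_val_zero,
      Matrix.cons_val_succ, ← pow_two_pow_mod hq, add_zero]
    simp only [pow_add, pow_mul', t, show (2 : ℕ) ^ 2 = 4 from rfl, pow_one]
    linear_combination (norm := sz_two) h1 + h2) (3 * t)
  have hne : ∀ i, i ≠ (0 : Fin 9) → i ≠ 6 → e i ≠ 3 * t := by
    intro i h0 h6
    have hp : 2 ^ ((d + 2) % n) ≠ 3 * t := by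
      intro hh
      have h3 : 3 ∣ 2 ^ ((d + 2) % n) := hh ▸ Dvd.intro t rfl
      have := Nat.Prime.dvd_of_dvd_pow Nat.prime_three h3
      omega
    have hev : t % 2 = 0 := Nat.mod_eq_zero_of_dvd (dvd_pow_self 2 (by omega))
    fin_cases i <;> simp [e] at h0 h6 ⊢ <;> omega
  rw [Finset.sum_filter] at h
  simp [Fin.sum_univ_succ, coef, e] at h
  have hp : ¬ 2 ^ ((d + 2) % n) = 3 * t := hne 8 (by decide) (by decide)
  have n1 : ¬ 1 + t = 3 * t := by omega
  have n2 : ¬ 1 + 2 * t = 3 * t := by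
    have hev : t % 2 = 0 := Nat.mod_eq_zero_of_dvd (dvd_pow_self 2 (by omega))
    omega
  have n3 : ¬ 2 = 3 * t := by omega
  have n4 : ¬ t = 1 := by omega
  have n5 : ¬ t = 0 := by omega
  simp only [hp, n1, n2, n3, n4, n5, if_false, add_zero, zero_add] at h
  have h' : (1 : F) + (if 2 + 2 * t = 3 * t then c else 0) = 0 := h
  by_cases h6 : 2 + 2 * t = 3 * t
  · rw [if_pos h6] at h'
    exact hc1 (by linear_combination h')
  · rw [if_neg h6, add_zero] at h'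
    exact one_ne_zero h'

/-- The identity for `c = 0`. -/
theorem theta_eq (L : Law F d 0 1 f) (a : F) :
    a * a ^ 2 ^ d + (a ^ 2 ^ d) ^ 2 * a + a ^ 2 ^ d * a ^ 2 ^ (2 * d + 1) +
      (a ^ 2 ^ d) ^ 2 * a ^ 2 ^ (2 * d + 1) = 0 := by
  have := L.charTwo
  rcases eq_or_ne a 0 with rfl | ha
  · simp [zero_pow (Nat.two_pow_pos d).ne']
  rcases eq_or_ne a 1 with rfl | ha1
  · simp [CharTwo.add_self_eq_zero]
  obtain ⟨b, hb⟩ := L.exists_root (1 + a * a ^ 2 ^ d)
  have e1 := L.main_eq ha ha1 hb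
  have hS : 1 + a * a ^ 2 ^ d ≠ 0 := by
    intro h
    refine ha1 (L.s_inj ?_)
    show a ^ (1 + 2 ^ d) = 1 ^ (1 + 2 ^ d)
    rw [one_pow, s_eq]; exact (add_eq_zero'.1 h).symm
  have hA1 : 1 + a ^ 2 ^ d ≠ 0 := by
    intro h
    have h3 : a ^ 2 ^ d = (1 : F) ^ 2 ^ d := by rw [one_pow]; exact (add_eq_zero'.1 h).symm
    exact ha1 (iterateFrobenius_inj F 2 d h3)
  have hbd : b * (1 + a * (a ^ 2 ^ d) ^ 2) = (1 + a * a ^ 2 ^ d) ^ 2 := by
    generalize a ^ 2 ^ d = Y at *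
    simp only at e1
    refine mul_left_cancel₀ (a := a * (1 + Y)) (mul_ne_zero ha hA1) ?_
    linear_combination (norm := sz_two) e1
  have h : (b * (1 + a * (a ^ 2 ^ d) ^ 2)) ^ 2 ^ d = ((1 + a * a ^ 2 ^ d) ^ 2) ^ 2 ^ d := by
    rw [hbd]
  rw [mul_pow, th_add, one_pow, mul_pow, pow_right_comm (1 + a * a ^ 2 ^ d), th_add, one_pow,
    mul_pow] at h
  have hz : a ^ 2 ^ (2 * d + 1) = ((a ^ 2 ^ d) ^ 2) ^ 2 ^ d := by
    rw [← pow_mul, ← pow_mul]
    congr 1
    rw [two_mul, pow_succ, pow_add]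
    ring
  rw [hz]
  rw [s_eq] at hb
  rw [pow_right_comm (a ^ 2 ^ d) 2] at h ⊢
  generalize ((a ^ 2 ^ d) ^ 2 ^ d) = W at *
  generalize a ^ 2 ^ d = Y at *
  generalize b ^ 2 ^ d = V at *
  refine mul_left_cancel₀ (a := 1 + a * Y) hS ?_
  linear_combination (norm := sz_two) (V * (1 + Y * W ^ 2)) * hbd + (1 + a * Y) ^ 2 * h +
    ((1 + a * Y ^ 2) * (1 + Y * W ^ 2)) * hb

theorem theta_half (hq : Fintype.card F = 2 ^ n) (hd : 1 ≤ d) (hdn : d + 2 ≤ n)
    (L : Law F d 0 1 f) : 2 * d + 1 = n := by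
  classical
  let k := (2 * d + 1) % n
  have hk : k < n := Nat.mod_lt _ (by omega)
  let e : Fin 4 → ℕ := ![1 + 2 ^ d, 1 + 2 ^ (d + 1), 2 ^ d + 2 ^ k, 2 ^ (d + 1) + 2 ^ k]
  have hk1 : d + 1 ≠ k := by
    intro h
    have hdm := Nat.mod_add_div (2 * d + 1) n
    rcases Nat.eq_zero_or_pos ((2 * d + 1) / n) with h0 | h0
    · rw [h0] at hdm; simp only [k] at h; omega
    · have : n ≤ n * ((2 * d + 1) / n) := Nat.le_mul_of_pos_right _ h0
      simp only [k] at h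
      omega
  have hp1 : 2 ^ (d + 1) * 2 ≤ 2 ^ n := by
    rw [← pow_succ]; exact Nat.pow_le_pow_right (by norm_num) (by omega)
  have hp2 : 2 ^ k * 2 ≤ 2 ^ n := by
    rw [← pow_succ]; exact Nat.pow_le_pow_right (by norm_num) (by omega)
  have hp3 : 2 ≤ 2 ^ d := by
    calc 2 = 2 ^ 1 := rfl
      _ ≤ 2 ^ d := Nat.pow_le_pow_right (by norm_num) hd
  have hp4 : 2 ^ (d + 1) = 2 * 2 ^ d := by rw [pow_succ]; ring
  have hp5 : 2 ^ (d + 1) ≠ 2 ^ k := fun h => hk1 (Nat.pow_right_injective le_rfl h)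
  have h := coeff_zero_of_forall (F := F) Finset.univ (fun _ => (1 : F)) e (by
    intro i _
    rw [hq]
    fin_cases i <;> simp [e] <;> omega) (fun x => by
    have h := L.theta_eq x
    rw [← h]
    simp only [Fin.sum_univ_succ, Fin.sum_univ_zero, e, Matrix.cons_val_zero, Matrix.cons_val_succ,
      pow_add, k, ← pow_two_pow_mod hq, add_zero, one_mul, pow_succ]
    ring) (1 + 2 ^ d)
  rw [Finset.sum_filter, Fin.sum_univ_four] at h
  have h' : (if 1 + 2 ^ d = 1 + 2 ^ d then (1 : F) else 0) +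
      (if 1 + 2 ^ (d + 1) = 1 + 2 ^ d then (1 : F) else 0) +
      (if 2 ^ d + 2 ^ k = 1 + 2 ^ d then (1 : F) else 0) +
      (if 2 ^ (d + 1) + 2 ^ k = 1 + 2 ^ d then (1 : F) else 0) = 0 := h
  rw [if_pos rfl, if_neg (by omega : ¬ 1 + 2 ^ (d + 1) = 1 + 2 ^ d),
    if_neg (fun hh : 2 ^ (d + 1) + 2 ^ k = 1 + 2 ^ d => by
      have := two_pow_add_eq (by omega : 1 ≤ d + 1) hd hh; omega)] at h'
  by_cases h3 : 2 ^ d + 2 ^ k = 1 + 2 ^ d
  · have hk0 : k = 0 := Nat.pow_right_injective (le_refl 2) (show 2 ^ k = 2 ^ 0 by rw [pow_zero]; omega)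
    have hdm := Nat.mod_add_div (2 * d + 1) n
    simp only [k] at hk0
    rw [hk0] at hdm
    rcases Nat.lt_or_ge ((2 * d + 1) / n) 2 with h2 | h2
    · interval_cases h4 : (2 * d + 1) / n <;> omega
    · have : n * 2 ≤ n * ((2 * d + 1) / n) := Nat.mul_le_mul_left _ h2
      omega
  · rw [if_neg h3] at h'
    simp at h'

theorem not_last (hq : Fintype.card F = 2 ^ n) (hd : d + 1 = n) (hn : 3 ≤ n) :
    ¬ Law F d (0 : F) 1 f := by
  intro L
  have := L.charTwo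
  obtain ⟨x, hx0, hx1⟩ : ∃ x : F, x ≠ 0 ∧ x ≠ 1 := by
    classical
    have h8 : 2 < Fintype.card F := by
      rw [hq]; exact lt_of_lt_of_le (by norm_num) (Nat.pow_le_pow_right (by norm_num) hn)
    obtain ⟨x, -, hx⟩ := Finset.exists_mem_notMem_of_card_lt_card
      (s := ({0, 1} : Finset F)) (t := Finset.univ)
      (lt_of_le_of_lt (Finset.card_le_two) (by simpa using h8))
    exact ⟨x, fun h => hx (by simp [h]), fun h => hx (by simp [h])⟩
  have h := L.theta_eq x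
  have h1 : (x ^ 2 ^ d) ^ 2 = x := by
    rw [← pow_mul, ← pow_succ, hd, ← hq, FiniteField.pow_card]
  have h2 : x ^ 2 ^ (2 * d + 1) = x ^ 2 ^ d := by
    rw [show 2 * d + 1 = n + d by omega, pow_add, pow_mul, ← hq, FiniteField.pow_card]
  rw [h2, h1, ← pow_two, ← pow_two, h1] at h
  have : x * (x + 1) = 0 := by linear_combination (norm := sz_two) h
  rcases mul_eq_zero.1 this with h' | h'
  · exact hx0 h'
  · exact hx1 (add_eq_zero'.1 h')

omit [Fintype F] in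
theorem f_zero_one (L : Law F d 0 1 f) : f (1, 0) = (0, 1) := by
  rw [← L.f_z, L.invol _ fun h => one_ne_zero (congrArg Prod.snd h)]

/-- The permutation is determined by the parameters. -/
theorem unique {g : F × F → F × F} (L : Law F d 0 1 f) (L' : Law F d 0 1 g) (v : F × F)
    (hv : v ≠ 0) : f v = g v := by
  have := L.charTwo
  obtain ⟨α, β⟩ := v
  rcases eq_or_ne α 0 with rfl | hα
  · have hβ : β ≠ 0 := fun h => hv (by rw [h]; rfl)
    obtain ⟨t, ht⟩ := L.exists_root β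
    have ht0 : t ≠ 0 := by
      rintro rfl
      exact hβ (ht.symm.trans (zero_pow (by simp)))
    have hz : ((0, 1) : F × F) ≠ 0 := fun h => one_ne_zero (congrArg Prod.snd h)
    have hs : scl d t (0, 1) = ((0, β) : F × F) := by simp [scl, ht]
    rw [← hs, L.scale t _ ht0 hz, L'.scale t _ ht0 hz, L.f_z, L'.f_z]
  obtain ⟨γ, rfl⟩ : ∃ γ, β = α ^ (1 + 2 ^ d) * γ :=
    ⟨β / α ^ (1 + 2 ^ d), (mul_div_cancel₀ _ (s_ne hα)).symm⟩
  have h1 : ((1, γ) : F × F) ≠ 0 := fun h => one_ne_zero (congrArg Prod.fst h)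
  have hs : scl d α (1, γ) = (α, α ^ (1 + 2 ^ d) * γ) := by simp [scl]
  rw [← hs, L.scale α _ hα h1, L'.scale α _ hα h1]
  congr 1
  rcases eq_or_ne γ 0 with rfl | hγ
  · rw [L.f_zero_one, L'.f_zero_one]
  rcases eq_or_ne γ 1 with rfl | hγ1
  · have a1 := L.f_einv
    have a2 := L'.f_einv
    rw [zero_add] at a1 a2
    rw [a1, a2]
  set x := 1 + γ⁻¹ with hx
  have hx0 : x ≠ 0 := fun h => hγ1 (inv_eq_one.1 (add_eq_zero'.1 h).symm)
  have hx1 : x ≠ 1 := fun h => inv_ne_zero hγ (by rw [hx] at h; linear_combination h)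
  obtain ⟨u, hu⟩ := L.exists_root (1 + (x ^ (1 + 2 ^ d))⁻¹)
  have hu0 : u ≠ 0 := by
    rintro rfl
    rw [zero_pow (by simp)] at hu
    refine hx1 (L.s_inj ?_)
    show x ^ (1 + 2 ^ d) = 1 ^ (1 + 2 ^ d)
    rw [one_pow]
    exact inv_eq_one.1 (add_eq_zero'.1 hu.symm).symm
  obtain ⟨h1x, -, e1⟩ := L.f_vx hx0 hx1 (inv_ne_zero hu0) (by rw [inv_pow, inv_inv, hu])
  obtain ⟨-, -, e2⟩ := L'.f_vx hx0 hx1 (inv_ne_zero hu0) (by rw [inv_pow, inv_inv, hu])
  have hβ : beta d 0 x = γ := by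
    have hA : 1 + x ^ 2 ^ d ≠ 0 := by
      have := pow_ne_zero (2 ^ d) h1x
      rwa [th_add, one_pow] at this
    have hxg : (1 : F) + x = γ⁻¹ := by
      rw [hx, ← add_assoc, CharTwo.add_self_eq_zero, zero_add]
    rw [beta, s_eq d (1 + x), th_add, one_pow, zero_add, zero_mul, add_zero, hxg]
    field_simp
    rw [← add_assoc, CharTwo.add_self_eq_zero, zero_add]
  rw [hβ] at e1 e2
  rw [e1, e2]

end Law

end Cfsg.Agent.H70.SzUnique
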